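import Cfsg.Agent.EqLemmas
import Cfsg.Agent.Lib.ProductMeet.Assembly
import Cfsg.Agent.Lib.Suzuki.Aut
import Cfsg.Agent.S2602
import Cfsg.Agent.S2603

/-!
# The simple sections, and what fixes the centre of a Sylow 2-subgroup (owner: helper78, S1173)

* `eq_bot_of_perfect` : a solvable perfect subgroup is trivial
* `simpleShape_of_mainAt`, `secShape_of_mainAt` : the shapes from Goldschmidt's theorem
* `out_solvable` : the three families have solvable outer automorphism group
* `hom_eq_one` : a perfect group of automorphisms fixing the centre of a Sylow subgroup is trivial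
-/

set_option autoImplicit false
set_option linter.unusedSectionVars false
set_option linter.style.haveILetI false

namespace Cfsg.Agent.ClosedCent

open Cfsg Subgroup Cfsg.Agent.Goldschmidt Cfsg.Agent.Goldschmidt.General Cfsg.Agent.ProductMeet
open scoped commutatorElement

universe u v w

/-- A solvable perfect subgroup is trivial. -/
theorem eq_bot_of_perfect {G : Type u} [Group G] {H : Subgroup G} (hs : Group.IsSolvable ↥H)
    (hp : ⁅H, H⁆ = H) : H = ⊥ := by
  obtain ⟨n, hn⟩ := hs.solvable
  have h : ∀ k : ℕ, (derivedSeries ↥H k).map H.subtype = H := by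
    intro k
    induction k with
    | zero => rw [derivedSeries_zero, ← MonoidHom.range_eq_map, range_subtype]
    | succ k ih => rw [derivedSeries_succ, map_commutator, ih, hp]
  rw [← h n, hn, Subgroup.map_bot]

/-- The shape of a simple group with an elementary closed set. -/
theorem simpleShape_of_mainAt (hMain : ∀ (L : Type u) [Group L] [Finite L], MainAt L)
    (L : Type u) [Group L] [Finite L] (hs : IsSimpleGroup L) (hna : ∃ a b : L, a * b ≠ b * a)
    (hT : ∃ T : Set L, Goldschmidt.Elem T ∧ ∃ x ∈ T, x ≠ 1) : SimpleShape L := by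
  obtain ⟨T, hT, x, hx, hx1⟩ := hT
  haveI := hs
  haveI : Fact (Nat.Prime 2) := ⟨Nat.prime_two⟩
  by_cases hSE : HasStronglyEmbedded L
  · obtain ⟨M, hM⟩ := hSE
    exact Or.inl (families_of_stronglyEmbedded hM)
  obtain ⟨S, hS⟩ := (hT.isPGroup_zpowers hx).exists_le_sylow
  set A := hT.closed.sub (S : Subgroup L) S.isPGroup' with hA
  have hne : A ≠ ⊥ := fun e => hx1 (mem_bot.1 (e ▸ ⟨hS (mem_zpowers x), hx⟩))
  have hel : Cfsg.IsElementaryAbelian 2 A := by
    refine ⟨⟨⟨fun a b => Subtype.ext (hT.commute S.isPGroup' a.2.1 b.2.1 a.2.2 b.2.2).eq⟩⟩, fun a ha => ?_⟩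
    rw [pow_two]
    exact hT.sq a ha.2
  have hcl : Cfsg.IsStronglyClosed A (S : Subgroup L) :=
    ⟨fun a ha => ha.1, fun a ha g hg => ⟨hg, hT.closed.conj g a ha.2⟩⟩
  obtain ⟨hSel, h8⟩ := (hMain L hs hna S A hne hel hcl).resolve_left hSE
  exact Or.inr (smallTarget Aschbacher.coreFreeCriterion L hs hna hSE S hSel h8)

/-- `SecShape` for every group. -/
theorem secShape_of_mainAt (hMain : ∀ (L : Type u) [Group L] [Finite L], MainAt L)
    (X : Type u) [Group X] : SecShape X := fun L _ _ _ _ _ hs hna hT => by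
  rcases simpleShape_of_mainAt hMain L hs hna hT with h | ⟨q, hq⟩
  · obtain ⟨q, hq⟩ := rankTarget L hs h
    exact ⟨q, Or.inl hq⟩
  · exact ⟨q, Or.inr hq⟩

/-- A finite group is solvable above a cyclic kernel with commutative image. -/
theorem isSolvable_of_cyclic_ker {A : Type v} [Group A] {B : Type w} [CommGroup B] (φ : A →* B)
    (h : IsCyclic φ.ker) : Group.IsSolvable A := by
  haveI : Group.IsSolvable φ.ker := Group.isSolvable_of_comm (IsCyclic.commGroup (α := φ.ker)).mul_comm
  haveI : Group.IsSolvable B := Group.isSolvable_of_comm mul_comm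
  exact Group.isSolvable_of_ker_le_range φ.ker.subtype φ (by rw [range_subtype])

/-- Transport of solvability of the outer automorphism group, across universes. -/
theorem out_congr {S : Type v} {T : Type w} [Group S] [Group T] (e : S ≃* T)
    (h : Group.IsSolvable (Cfsg.Out S)) : Group.IsSolvable (Cfsg.Out T) := by
  have hmap : (Cfsg.Inn S).map (MulAut.congr e).toMonoidHom = Cfsg.Inn T := by
    ext φ
    constructor
    · rintro ⟨_, ⟨g, rfl⟩, rfl⟩
      exact ⟨e g, by ext t; simp [MulAut.congr]⟩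
    · rintro ⟨t, rfl⟩
      exact ⟨_, ⟨e.symm t, rfl⟩, by ext u; simp [MulAut.congr]⟩
  exact Group.isSolvable_of_surjective
    (f := (QuotientGroup.congr (Cfsg.Inn S) (Cfsg.Inn T) (MulAut.congr e) hmap).toMonoidHom)
    (QuotientGroup.congr (Cfsg.Inn S) (Cfsg.Inn T) (MulAut.congr e) hmap).surjective

variable {L : Type u} [Group L] [Finite L]

/-- The three families have solvable outer automorphism groups. -/
theorem out_solvable (h : (∃ (F : Type) (_ : Field F) (_ : Fintype F) (n : ℕ), 2 ≤ n ∧
        Fintype.card F = 2 ^ n ∧ Nonempty (L ≃* Matrix.ProjectiveSpecialLinearGroup (Fin 2) F)) ∨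
      Cfsg.Lie.IsoSuzuki L ∨
      (∃ (F : Type) (_ : Field F) (_ : Fintype F) (n : ℕ), 2 ≤ n ∧ Fintype.card F = (2 ^ n) ^ 2 ∧
        Nonempty (L ≃* Cfsg.PSU 3 F (2 ^ n)))) : Group.IsSolvable (Cfsg.Out L) := by
  haveI : Fact (Nat.Prime 2) := ⟨Nat.prime_two⟩
  rcases h with ⟨F, _, _, n, hn, hF, ⟨e⟩⟩ | ⟨F, _, _, m, hm, hF, ⟨e⟩⟩ | ⟨F, _, _, n, hn, hF, ⟨e⟩⟩
  · obtain ⟨φ, -, hc, -⟩ := S2602.out_structure (p := 2) (f := n) (by omega) hF
    exact out_congr e.symm (isSolvable_of_cyclic_ker φ hc)
  · have h1 := Suzuki.card_out hm hF (e.trans (Suzuki.lieEquiv hm hF).symm)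
    exact OddOrderTheorem.solvable (by rw [h1]; exact ⟨m, rfl⟩)
  · obtain ⟨φ, -, hc, -⟩ := S2603.out_structure (n := 3) (F := F) (f := n) (by omega) 2 rfl hF le_rfl
      (fun h => by
        have : 2 ^ 2 ≤ 2 ^ n := Nat.pow_le_pow_right two_pos hn
        omega)
    exact out_congr e.symm (isSolvable_of_cyclic_ker φ hc)

/-- A perfect group of automorphisms fixing the centre of a Sylow subgroup is trivial. -/
theorem hom_eq_one {M : Type u} [Group M] [Finite M] (hM : ⁅(⊤ : Subgroup M), (⊤ : Subgroup M)⁆ = ⊤)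
    [IsSimpleGroup L] (h : SimpleShape L) (Q : Sylow 2 L) (φ : M →* MulAut L)
    (hfix : ∀ m, ∀ z ∈ centre (Q : Subgroup L), φ m z = z) : φ = 1 := by
  haveI : Fact (Nat.Prime 2) := ⟨Nat.prime_two⟩
  suffices key : Group.IsSolvable φ.range by
    have hp : ⁅φ.range, φ.range⁆ = φ.range := by
      rw [MonoidHom.range_eq_map, ← map_commutator, hM]
    exact MonoidHom.range_eq_bot_iff.1 (eq_bot_of_perfect key hp)
  rcases h with h | ⟨q, F⟩
  · -- the three families
    obtain ⟨q, R⟩ := rankTarget L inferInstance h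
    haveI := out_solvable h
    have hin : φ.range ≤ Cfsg.Inn L := by
      haveI : (Cfsg.Inn L).Normal := inferInstance
      set π := (QuotientGroup.mk' (Cfsg.Inn L)).comp φ
      have hp : ⁅π.range, π.range⁆ = π.range := by
        rw [MonoidHom.range_eq_map, ← map_commutator, hM]
      have h1 := eq_bot_of_perfect inferInstance hp
      rintro _ ⟨m, rfl⟩
      exact (QuotientGroup.eq_one_iff _).1 (mem_bot.1 (h1 ▸ (⟨m, rfl⟩ : π m ∈ π.range)))
    obtain ⟨z, hz, hz1⟩ : ∃ z ∈ centre (Q : Subgroup L), z ≠ 1 := by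
      refine (bot_or_exists_ne_one _).resolve_left fun e => ?_
      have h1 := R.card_centre Q
      rw [e, card_bot] at h1
      obtain ⟨n, hn, rfl⟩ := R.pow
      have : 2 ^ 2 ≤ 2 ^ n := Nat.pow_le_pow_right two_pos hn
      omega
    have hle : φ.range ≤ (normalizer ((Q : Subgroup L) : Set L)).map MulAut.conj := by
      rintro _ ⟨m, rfl⟩
      obtain ⟨s, hs⟩ := hin ⟨m, rfl⟩
      refine ⟨s, R.cent Q z hz hz1 (mem_centralizer_singleton_iff.2 ?_), hs⟩
      have e : MulAut.conj s z = z := by rw [hs]; exact hfix m z hz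
      rw [MulAut.conj_apply] at e
      exact mul_inv_eq_iff_eq_mul.1 e
    haveI := R.solvable Q
    haveI : Group.IsSolvable ↥((normalizer ((Q : Subgroup L) : Set L)).map MulAut.conj) :=
      Group.isSolvable_of_surjective (MonoidHom.subgroupMap_surjective MulAut.conj _)
    exact Group.isSolvable_of_isSolvable_injective (inclusion_injective hle)
  · -- the small case
    set C : Subgroup (MulAut L) := (Q : Subgroup L).map MulAut.conj with hC
    haveI hCs : Group.IsSolvable ↥C := by
      haveI : Group.IsSolvable ↥(Q : Subgroup L) := Group.isSolvable_of_comm (F.sylow Q).1.1.is_comm.comm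
      exact Group.isSolvable_of_surjective (MonoidHom.subgroupMap_surjective MulAut.conj _)
    obtain ⟨P⟩ : Nonempty (Sylow 2 M) := inferInstance
    set N := normalClosure ((P : Subgroup M) : Set M) with hN
    have htop : N = ⊤ := by
      have hodd : Odd (Nat.card (M ⧸ N)) := by
        rw [← index_eq_card, ← Nat.not_even_iff_odd, even_iff_two_dvd]
        exact fun h2 => P.not_dvd_index (h2.trans (index_dvd_of_le subset_normalClosure))
      haveI := OddOrderTheorem.solvable hodd
      have hp : ⁅(⊤ : Subgroup (M ⧸ N)), (⊤ : Subgroup (M ⧸ N))⁆ = ⊤ := by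
        rw [← map_top_of_surjective _ (QuotientGroup.mk'_surjective N), ← map_commutator, hM]
      have h1 := eq_bot_of_perfect (Group.isSolvable_of_isSolvable_injective
        (f := (⊤ : Subgroup (M ⧸ N)).subtype) Subtype.val_injective) hp
      rw [eq_top_iff]
      intro m _
      exact (QuotientGroup.eq_one_iff m).1 (mem_bot.1 (h1 ▸ mem_top (QuotientGroup.mk' N m)))
    have hle : φ.range ≤ C := by
      rw [MonoidHom.range_eq_map, ← htop, hN, normalClosure, MonoidHom.map_closure, closure_le]
      rintro _ ⟨x, hx, rfl⟩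
      obtain ⟨p, hp, hconj⟩ := Group.mem_conjugatesOfSet_iff.1 hx
      obtain ⟨g, rfl⟩ := isConj_iff.1 hconj
      obtain ⟨k, hk⟩ := P.isPGroup' ⟨p, hp⟩
      have hk' : p ^ 2 ^ k = 1 := congrArg Subtype.val hk
      obtain ⟨s, hs, e⟩ := F.autInner Q (φ (g * p * g⁻¹))
        ⟨k, by rw [← map_pow, conj_pow, hk', mul_one, mul_inv_cancel, map_one]⟩
        (fun x hx => hfix _ x (by rw [F.centre_eq Q]; exact hx))
      exact ⟨s, hs, e.symm⟩
    exact Group.isSolvable_of_isSolvable_injective (inclusion_injective hle)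

end Cfsg.Agent.ClosedCent
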