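import Cfsg.Agent.Lib.ClosedCent.Elementary
import Cfsg.Agent.Lib.StrongClosedNC.Image

/-!
# Perfect groups centralising an abelian strongly closed subgroup (owner: helper78, S1173)

* `centralizes_elem` : the elementary case
* `centralizes_step` : from `G / ⟨B^G⟩` to `G`
* `centralizes` : `[L, ⟨A^G⟩] ≤ O(G)` for abelian strongly closed `A` centralised by a perfect `L`
-/

set_option autoImplicit false
set_option linter.unusedSectionVars false
set_option linter.style.haveILetI false

namespace Cfsg.Agent.ClosedCent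

open Cfsg Subgroup Cfsg.Agent.Goldschmidt Cfsg.Agent.Goldschmidt.General
open scoped commutatorElement

universe u

variable {G : Type u} [Group G] [Finite G]

/-- The elementary case. -/
theorem centralizes_elem (hMain : ∀ (L : Type u) [Group L] [Finite L], MainAt L)
    (hO : pPrimeCore 2 G = ⊥) (S : Sylow 2 G) {B : Subgroup G}
    (hsc : IsStronglyClosed B (S : Subgroup G)) (hB : ∀ b ∈ B, b * b = 1) {L : Subgroup G}
    (hp : ⁅L, L⁆ = L) (hLB : L ≤ centralizer (B : Set G)) :
    L ≤ centralizer (normalClosure (B : Set G) : Set G) := by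
  haveI : Fact (Nat.Prime 2) := ⟨Nat.prime_two⟩
  have hT : Elem (classSet B) := elem_classSet S hsc hB
  have hloc : Local G (classSet B) B := by
    refine ⟨hO, secShape_of_mainAt hMain G, hT, fun b hb => mem_classSet_of_mem hb,
      S.isPGroup'.to_le hsc.1, fun P hP hBP x hxP hx => ?_⟩
    obtain ⟨R, hR⟩ := hP.exists_le_sylow
    obtain ⟨g, hg⟩ := MulAction.exists_smul_eq G R S
    have hmem : ∀ z ∈ P, g * z * g⁻¹ ∈ (S : Subgroup G) := fun z hz => by
      rw [← hg, Sylow.coe_subgroup_smul, Coprime.mem_conj]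
      simpa [mul_assoc] using hR hz
    have hxB := (mem_classSet_iff hsc (hmem x hxP)).1 (hT.closed.conj g x hx)
    -- conjugation by `g` maps `B` onto itself
    have hmap : B.map (MulAut.conj g).toMonoidHom = B := by
      refine eq_of_le_of_card_ge ?_ (card_map_of_injective (MulAut.conj g).injective).ge
      rintro _ ⟨b, hb, rfl⟩
      exact hsc.2 b hb g (hmem b (hBP hb))
    rw [← hmap] at hxB
    obtain ⟨b, hb, e⟩ := hxB
    exact (MulAut.conj g).injective e ▸ hb
  have h1 := centralizes_closed hMain hloc hp hLB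
  rw [le_centralizer_iff]
  refine (closure_le _).2 fun x hx => ?_
  obtain ⟨b, hb, hconj⟩ := Group.mem_conjugatesOfSet_iff.1 hx
  obtain ⟨g, rfl⟩ := isConj_iff.1 hconj
  refine mem_centralizer_iff.2 fun l hl => ?_
  exact (mem_centralizer_iff.1 (h1 hl) _ (hT.closed.conj g b (mem_classSet_of_mem hb))).symm

/-- A perfect group centralising a normal `W`, and whose commutators with `U` are odd over `W`,
centralises `U` when the core is trivial. -/
theorem centralizes_step (hO : pPrimeCore 2 G = ⊥) {W U L : Subgroup G} [W.Normal]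
    (hp : ⁅L, L⁆ = L) (hLW : L ≤ centralizer (W : Set G))
    (hU : ⁅L, U⁆ ≤ (pPrimeCore 2 (G ⧸ W)).comap (QuotientGroup.mk' W)) :
    L ≤ centralizer (U : Set G) := by
  haveI : Fact (Nat.Prime 2) := ⟨Nat.prime_two⟩
  set V := (pPrimeCore 2 (G ⧸ W)).comap (QuotientGroup.mk' W) with hV
  haveI : V.Normal := Normal.comap inferInstance _
  haveI hCn : (centralizer (W : Set G)).Normal := inferInstance
  set Z := W ⊓ centralizer (W : Set G) with hZ
  haveI hZn : Z.Normal := normal_inf_normal _ _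
  have hZc : ∀ a ∈ Z, ∀ b ∈ Z, a * b = b * a := fun a ha b hb =>
    (mem_centralizer_iff.1 hb.2 a ha.1)
  set J := V ⊓ centralizer (W : Set G) with hJ
  haveI hJn : J.Normal := normal_inf_normal _ _
  have hWV : W ≤ V := fun w hw => by
    rw [hV, mem_comap, show QuotientGroup.mk' W w = 1 from (QuotientGroup.eq_one_iff w).2 hw]
    exact one_mem _
  have hZJ : Z ≤ J := inf_le_inf_right _ hWV
  -- `Z` is a 2-group
  have hZ2 : IsPGroup 2 ↥Z := by
    haveI : IsMulCommutative ↥Z := ⟨⟨fun a b => Subtype.ext (hZc a a.2 b b.2)⟩⟩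
    refine IsPGroup.iff_orderOf.2 fun z => ?_
    obtain ⟨k, m, hm, hzm⟩ := Nat.exists_eq_two_pow_mul_odd (orderOf_pos z).ne'
    refine ⟨k, ?_⟩
    suffices h : m = 1 by rw [hzm, h, mul_one]
    -- the odd elements of `Z` form a normal odd subgroup of `G`
    let O : Subgroup G :=
      { carrier := {x | x ∈ Z ∧ Odd (orderOf x)}
        one_mem' := ⟨one_mem _, by rw [orderOf_one]; exact odd_one⟩
        mul_mem' := fun {a b} ha hb => ⟨Z.mul_mem ha.1 hb.1,
          (ha.2.mul hb.2).of_dvd_nat ((show Commute a b from hZc a ha.1 b hb.1).orderOf_mul_dvd_mul_orderOf)⟩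
        inv_mem' := fun {a} ha => ⟨Z.inv_mem ha.1, by rw [orderOf_inv]; exact ha.2⟩ }
    haveI : O.Normal := ⟨fun x hx g => ⟨hZn.conj_mem x hx.1 g, by
      rw [show g * x * g⁻¹ = MulAut.conj g x from rfl, MulEquiv.orderOf_eq]; exact hx.2⟩⟩
    have hOc : (Nat.card ↥O).Coprime 2 := by
      rw [Nat.coprime_two_right, ← Nat.not_even_iff_odd, even_iff_two_dvd]
      intro h2
      obtain ⟨x, hx⟩ := exists_prime_orderOf_dvd_card' 2 h2
      have h3 : Odd (orderOf (x : G)) := x.2.2
      rw [Subgroup.orderOf_coe, hx] at h3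
      exact absurd h3 (by decide)
    have h1 : O ≤ pPrimeCore 2 G :=
      Cores.le_pPrimeCore_of_isSubnormal (Normal.isSubnormal inferInstance) hOc
    rw [hO, le_bot_iff] at h1
    have h2 : (z : G) ^ 2 ^ k ∈ O := by
      refine ⟨pow_mem z.2 _, ?_⟩
      rw [orderOf_pow' _ (by positivity), Subgroup.orderOf_coe, hzm, Nat.gcd_eq_right (dvd_mul_right _ _),
        Nat.mul_div_cancel_left _ (by positivity)]
      exact hm
    rw [h1, mem_bot] at h2
    have h3 : z ^ 2 ^ k = 1 := Subtype.ext h2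
    have h4 := Nat.le_of_dvd (by positivity) (hzm ▸ orderOf_dvd_of_pow_eq_one h3)
    exact le_antisymm (by simpa using h4) hm.pos
  have hJZ : J ≤ Z := by
    refine ProductMeet.le_of_central hO hZJ hZ2 (fun x hx => ?_) ?_
    · exact mem_centralizer_iff.2 fun z hz => mem_centralizer_iff.1 hx.2 z hz.1
    · have e : Z.relIndex J = Nat.card ↥(J.map (QuotientGroup.mk' W)) := by
        rw [← relIndex_ker, QuotientGroup.ker_mk', ← inf_relIndex_right W J]
        congr 1
        exact le_antisymm (fun x hx => ⟨hx.1, ⟨hWV hx.1, hx.2⟩⟩) fun x hx => ⟨hx.1, hx.2.2⟩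
      rw [e]
      exact (Cores.coprime_card_pPrimeCore (G := G ⧸ W) 2).coprime_dvd_left
        (Subgroup.card_dvd_of_le (map_le_iff_le_comap.2 inf_le_left))
  have hLJ : ∀ l ∈ L, ∀ j ∈ J, l * j = j * l := fun l hl j hj =>
    (mem_centralizer_iff.1 (hLW hl) j (hJZ hj).1).symm
  -- `L` centralises `V`
  have hLV : L ≤ centralizer (V : Set G) := by
    intro l₀ hl₀
    refine mem_centralizer_iff.2 fun v hv => ?_
    have hcJ : ∀ l ∈ L, v⁻¹ * (l * v * l⁻¹) ∈ J := by
      intro l hl
      refine ⟨V.mul_mem (V.inv_mem hv) ((inferInstance : V.Normal).conj_mem v hv l),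
        mem_centralizer_iff.2 fun w hw => ?_⟩
      have hlw : ∀ x ∈ W, l * x * l⁻¹ = x := fun x hx => by
        rw [(mem_centralizer_iff.1 (hLW hl) x hx).symm, mul_inv_cancel_right]
      have hvw : v * w * v⁻¹ ∈ W := (inferInstance : W.Normal).conj_mem w hw v
      calc w * (v⁻¹ * (l * v * l⁻¹))
          = v⁻¹ * ((v * w * v⁻¹) * (l * v * l⁻¹)) := by group
        _ = v⁻¹ * ((l * (v * w * v⁻¹) * l⁻¹) * (l * v * l⁻¹)) := by rw [hlw _ hvw]
        _ = v⁻¹ * (l * v * l⁻¹) * (l * w * l⁻¹) := by group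
        _ = v⁻¹ * (l * v * l⁻¹) * w := by rw [hlw _ hw]
    haveI : IsMulCommutative ↥J := ⟨⟨fun a b => Subtype.ext (hZc a (hJZ a.2) b (hJZ b.2))⟩⟩
    let ψ : ↥L →* ↥J :=
      { toFun := fun l => ⟨v⁻¹ * ((l : G) * v * (l : G)⁻¹), hcJ l l.2⟩
        map_one' := Subtype.ext (by simp)
        map_mul' := fun a b => Subtype.ext (by
          have hb := hcJ b b.2
          have h1 := hLJ a a.2 _ hb
          show v⁻¹ * ((a : G) * b * v * ((a : G) * b)⁻¹)
            = v⁻¹ * ((a : G) * v * (a : G)⁻¹) * (v⁻¹ * ((b : G) * v * (b : G)⁻¹))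
          calc v⁻¹ * ((a : G) * b * v * ((a : G) * b)⁻¹)
              = v⁻¹ * ((a : G) * v * ((v⁻¹ * ((b : G) * v * (b : G)⁻¹)) * (a : G)⁻¹)) := by group
            _ = v⁻¹ * ((a : G) * v * ((a : G)⁻¹ * ((a : G) * (v⁻¹ * ((b : G) * v * (b : G)⁻¹)))
                  * (a : G)⁻¹)) := by group
            _ = v⁻¹ * ((a : G) * v * ((a : G)⁻¹ * ((v⁻¹ * ((b : G) * v * (b : G)⁻¹)) * a)
                  * (a : G)⁻¹)) := by rw [h1]
            _ = _ := by group) }
    have hs : Group.IsSolvable ↥ψ.range :=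
      Group.isSolvable_of_comm fun a b => Subtype.ext (Subtype.ext (hZc _ (hJZ (a.1).2) _ (hJZ (b.1).2)))
    have h0 := eq_bot_of_perfect hs (by rw [MonoidHom.range_eq_map, ← map_commutator, perfect_top hp])
    have h1 : ψ ⟨l₀, hl₀⟩ = 1 := mem_bot.1 (h0 ▸ (⟨_, rfl⟩ : ψ ⟨l₀, hl₀⟩ ∈ ψ.range))
    have h2 : v⁻¹ * (l₀ * v * l₀⁻¹) = 1 := congrArg Subtype.val h1
    rw [inv_mul_eq_one, eq_mul_inv_iff_mul_eq] at h2
    exact h2
  have h1 : ⁅⁅L, U⁆, L⁆ = ⊥ := by
    rw [commutator_eq_bot_iff_le_centralizer]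
    exact hU.trans (le_centralizer_iff.1 hLV)
  have h2 : ⁅⁅U, L⁆, L⁆ = ⊥ := by rwa [commutator_comm U L]
  have h3 := commutator_commutator_eq_bot_of_rotate h1 h2
  rw [hp] at h3
  exact commutator_eq_bot_iff_le_centralizer.1 h3

theorem centralizes_aux (hMain : ∀ (L : Type u) [Group L] [Finite L], MainAt L) :
    ∀ (n : ℕ) (G : Type u) [Group G] [Finite G], Nat.card G = n → ∀ (S : Sylow 2 G) (A L : Subgroup G),
      IsStronglyClosed A (S : Subgroup G) → IsMulCommutative A → ⁅L, L⁆ = L →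
      L ≤ centralizer (A : Set G) → ⁅L, normalClosure (A : Set G)⁆ ≤ pPrimeCore 2 G := by
  intro n
  induction n using Nat.strong_induction_on with
  | _ n ih =>
  intro G _ _ hn S A L hsc hA hp hLA
  haveI : Fact (Nat.Prime 2) := ⟨Nat.prime_two⟩
  -- the conclusion modulo a non-trivial normal subgroup
  have step : ∀ (N : Subgroup G) [N.Normal], N ≠ ⊥ →
      ⁅L, normalClosure (A : Set G)⁆ ≤ (pPrimeCore 2 (G ⧸ N)).comap (QuotientGroup.mk' N) := by
    intro N _ hN
    set f := QuotientGroup.mk' N with hf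
    have hfs : Function.Surjective f := QuotientGroup.mk'_surjective N
    have hlt : Nat.card (G ⧸ N) < n := by
      rw [← hn, Subgroup.card_eq_card_quotient_mul_card_subgroup N]
      exact lt_mul_of_one_lt_right Nat.card_pos (Subgroup.one_lt_card_iff_ne_bot N |>.2 hN)
    have hsc' : IsStronglyClosed (A.map f) ((S.mapSurjective hfs : Sylow 2 (G ⧸ N)) : Subgroup (G ⧸ N)) := by
      rw [Sylow.coe_mapSurjective]
      exact StrongClosedNC.map_stronglyClosed hsc f hfs
    have hA' : IsMulCommutative (A.map f) := by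
      refine ⟨⟨?_⟩⟩
      rintro ⟨_, a, ha, rfl⟩ ⟨_, b, hb, rfl⟩
      refine Subtype.ext ?_
      show f a * f b = f b * f a
      rw [← map_mul, ← map_mul,
        show a * b = b * a from congrArg Subtype.val (hA.is_comm.comm (⟨a, ha⟩ : A) ⟨b, hb⟩)]
    have hLA' : L.map f ≤ centralizer (A.map f : Set (G ⧸ N)) := by
      rintro _ ⟨l, hl, rfl⟩
      refine mem_centralizer_iff.2 ?_
      rintro _ ⟨a, ha, rfl⟩
      rw [← map_mul, ← map_mul, mem_centralizer_iff.1 (hLA hl) a ha]
    have h1 := ih _ hlt (G ⧸ N) rfl (S.mapSurjective hfs) (A.map f) (L.map f) hsc' hA'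
      (by rw [← map_commutator, hp]) hLA'
    rw [← map_le_iff_le_comap, map_commutator]
    refine le_trans (commutator_mono le_rfl ?_) h1
    rw [map_le_iff_le_comap]
    haveI : ((normalClosure (A.map f : Set (G ⧸ N))).comap f).Normal := Normal.comap inferInstance _
    exact normalClosure_le_normal fun a ha => subset_normalClosure ⟨a, ha, rfl⟩
  by_cases hO : pPrimeCore 2 G = ⊥
  swap
  · have h1 := step (pPrimeCore 2 G) hO
    rwa [Cores.pPrimeCore_quotient_self, MonoidHom.comap_bot, QuotientGroup.ker_mk'] at h1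
  rw [hO, le_bot_iff, commutator_eq_bot_iff_le_centralizer]
  by_cases hA1 : A = ⊥
  · intro l _
    refine mem_centralizer_iff.2 fun x hx => ?_
    have h : normalClosure (A : Set G) = ⊥ := by
      rw [eq_bot_iff]; exact normalClosure_le_normal (by rw [hA1])
    rw [h, coe_bot, Set.mem_singleton_iff] at hx
    rw [hx, one_mul, mul_one]
  -- the involutions of `A`
  have hc : ∀ x ∈ A, ∀ y ∈ A, x * y = y * x := fun x hx y hy =>
    congrArg Subtype.val (hA.is_comm.comm (⟨x, hx⟩ : A) ⟨y, hy⟩)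
  let B : Subgroup G :=
    { carrier := {x | x ∈ A ∧ x * x = 1}
      one_mem' := ⟨one_mem A, one_mul 1⟩
      mul_mem' := fun {x y} hx hy => ⟨A.mul_mem hx.1 hy.1, by
        rw [mul_assoc, ← mul_assoc y, hc y hy.1 x hx.1, mul_assoc x y, hy.2, mul_one, hx.2]⟩
      inv_mem' := fun {x} hx => ⟨A.inv_mem hx.1, by rw [← mul_inv_rev, hx.2, inv_one]⟩ }
  have hB1 : B ≠ ⊥ := by
    obtain ⟨a, ha, ha1⟩ := (bot_or_exists_ne_one A).resolve_left hA1
    obtain ⟨n, hnT, hn2, hn1⟩ := ProductMeet.exists_involution (ClosedPair.closed_classOf S hsc)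
      (ClosedPair.mem_classOf_of_mem ha) ha1
    exact fun e => hn1 (mem_bot.1 (e ▸ (⟨pow_mem ha n, hn2⟩ : a ^ n ∈ B)))
  have hBsc : IsStronglyClosed B (S : Subgroup G) := ⟨fun b hb => hsc.1 hb.1, fun b hb g hg =>
    ⟨hsc.2 b hb.1 g hg, by rw [show g * b * g⁻¹ * (g * b * g⁻¹) = g * (b * b) * g⁻¹ by group, hb.2, mul_one,
      mul_inv_cancel]⟩⟩
  have hLW : L ≤ centralizer (normalClosure (B : Set G) : Set G) :=
    centralizes_elem hMain hO S hBsc (fun b hb => hb.2) hp
      (hLA.trans (centralizer_le fun b hb => hb.1))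
  refine centralizes_step hO (W := normalClosure (B : Set G)) hp hLW (step _ fun e => hB1 ?_)
  exact eq_bot_iff.2 (e ▸ subset_normalClosure)

/-- **`[L, ⟨A^G⟩] ≤ O(G)`** for an abelian strongly closed `A` centralised by a perfect `L`. -/
theorem centralizes (hMain : ∀ (L : Type u) [Group L] [Finite L], MainAt L) (S : Sylow 2 G)
    {A L : Subgroup G} (hsc : IsStronglyClosed A (S : Subgroup G)) (hA : IsMulCommutative A)
    (hp : ⁅L, L⁆ = L) (hLA : L ≤ centralizer (A : Set G)) :
    ⁅L, normalClosure (A : Set G)⁆ ≤ pPrimeCore 2 G :=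
  centralizes_aux hMain _ G rfl S A L hsc hA hp hLA

end Cfsg.Agent.ClosedCent
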