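import Cfsg.Agent.Lib.ClosedCent.Main
import Cfsg.Agent.Lib.ZStar.Apply
import Cfsg.Agent.Lib.ZStarPrimePower.Proved
import Cfsg.Agent.Lib.Signalizer.PAction
import Cfsg.Agent.Lib.Signalizer.Transitivity

/-!
# Climbing from a self-centralised part of a strongly closed subgroup (owner: helper78, S1173)

* `le_perfectCore`, `perfect_le_map` : perfect subgroups lie in the residual
* `oC R` : `O(C(R))` inside `G`
* `Closing T R` : the members of the closed set centralising `R` lie in `R`
* `climb` : then the residual of `C(R)` is the residual of `C(T)` modulo `O(C(R))`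
-/

set_option autoImplicit false
set_option linter.unusedSectionVars false
set_option linter.style.haveILetI false

namespace Cfsg.Agent.ClosedCent

open Cfsg Subgroup Cfsg.Agent.ClosedPair
open scoped commutatorElement

universe u v

variable {G : Type u} [Group G] [Finite G]

/-- A perfect subgroup of an image lies in the image of the residual. -/
theorem perfect_le_map {A : Type u} [Group A] [Finite A] {B : Type v} [Group B] (φ : A →* B)
    {P : Subgroup B} (hp : ⁅P, P⁆ = P) (hle : P ≤ φ.range) :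
    P ≤ (⨅ n : ℕ, derivedSeries A n).map φ := by
  obtain ⟨n, -, h2⟩ := derivedSeries_stable A
  rw [h2]
  clear h2
  induction n with
  | zero => rwa [derivedSeries_zero, ← MonoidHom.range_eq_map]
  | succ n ih =>
    rw [derivedSeries_succ, map_commutator, ← hp]
    exact commutator_mono ih ih

/-- A perfect subgroup of `C(R)` lies in its residual. -/
theorem le_perfectCore {R P : Subgroup G} (hp : ⁅P, P⁆ = P) (hle : P ≤ centralizer (R : Set G)) :
    P ≤ perfectCore R :=
  perfect_le_map _ hp (by rwa [range_subtype])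

theorem perfectCore_anti {R R' : Subgroup G} (h : R ≤ R') : perfectCore R' ≤ perfectCore R :=
  le_perfectCore (perfectCore_perfect R') ((perfectCore_le R').trans (centralizer_le h))

/-- The normaliser of `R` normalises `C(R)`. -/
theorem normalizer_le_normalizer_centralizer (R : Subgroup G) :
    normalizer (R : Set G) ≤ normalizer (centralizer (R : Set G) : Set G) := by
  intro g hg
  refine Coprime.mem_normalizer_of_forall fun c hc => mem_centralizer_iff.2 fun t ht => ?_
  have h1 : g⁻¹ * t * g ∈ R := by simpa using (mem_normalizer_iff.1 (inv_mem hg) t).1 ht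
  calc t * (g * c * g⁻¹) = g * ((g⁻¹ * t * g) * c) * g⁻¹ := by group
    _ = g * (c * (g⁻¹ * t * g)) * g⁻¹ := by rw [mem_centralizer_iff.1 hc _ h1]
    _ = g * c * g⁻¹ * t := by group

/-- The odd core of `C(R)`, inside `G`. -/
def oC (R : Subgroup G) : Subgroup G :=
  (pPrimeCore 2 ↥(centralizer (R : Set G))).map (centralizer (R : Set G)).subtype

theorem oC_le (R : Subgroup G) : oC R ≤ centralizer (R : Set G) := map_subtype_le _

theorem not_two_dvd_oC (R : Subgroup G) : ¬ 2 ∣ Nat.card ↥(oC R) := fun h => by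
  rw [oC, Cores.card_map_subtype] at h
  exact Nat.not_coprime_of_dvd_of_dvd one_lt_two h dvd_rfl (Cores.coprime_card_pPrimeCore 2)

theorem normalizer_le_oC (R : Subgroup G) : normalizer (R : Set G) ≤ normalizer (oC R : Set G) := by
  haveI : (pPrimeCore 2 ↥(centralizer (R : Set G))).Characteristic :=
    Cores.pPrimeCore_characteristic 2 _
  exact (normalizer_le_normalizer_centralizer R).trans (Cores.normalizer_le_normalizer_map _)

/-- The members of the class of `T` centralising `R` lie in `R`. -/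
def Closing (T R : Subgroup G) : Prop :=
  ∀ x ∈ classOf T, x ∈ centralizer (R : Set G) → x ∈ R

/-- One step of index two. -/
theorem climb_step (S : Sylow 2 G) {T : Subgroup G} (hT : IsStronglyClosed T (S : Subgroup G))
    {R : Subgroup G} (hRT : R ≤ T) (hcl : Closing T R) {t : G} (htT : t ∈ T) (htR : t ∉ R)
    (htn : t ∈ normalizer (R : Set G)) (ht2 : t * t ∈ R)
    (ih : perfectCore (R ⊔ zpowers t) ≤ perfectCore T ⊔ oC (R ⊔ zpowers t)) :
    perfectCore R ≤ perfectCore T ⊔ oC R := by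
  classical
  haveI : Fact (Nat.Prime 2) := ⟨Nat.prime_two⟩
  have hTc : Closed (classOf T) := closed_classOf S hT
  set R' := R ⊔ zpowers t with hR'
  have hR'T : R' ≤ T := sup_le hRT (zpowers_le.2 htT)
  have htnR : zpowers t ≤ normalizer (R : Set G) := zpowers_le.2 htn
  have hR'n : R' ≤ normalizer (R : Set G) := sup_le le_normalizer htnR
  have hR'2 : IsPGroup 2 ↥R' := (S.isPGroup'.to_le hT.1).to_le hR'T
  set C := centralizer (R : Set G) with hC
  have hR'C : R' ≤ normalizer (C : Set G) := hR'n.trans (normalizer_le_normalizer_centralizer R)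
  set H := C ⊔ R' with hH
  have hCH : C ≤ H := le_sup_left
  have htH : t ∈ H := mem_sup_right (mem_sup_right (mem_zpowers t))
  have hHR : H ≤ normalizer (R : Set G) := sup_le (centralizer_le_normalizer _) hR'n
  haveI hRn : (R.subgroupOf H).Normal := normal_subgroupOf_of_le_normalizer hHR
  set f := QuotientGroup.mk' (R.subgroupOf H) with hf
  have hfeq : ∀ a b : ↥H, f a = f b ↔ (a : G)⁻¹ * b ∈ R := fun a b => QuotientGroup.eq
  have hf1 : ∀ a : ↥H, f a = 1 ↔ (a : G) ∈ R := fun a => QuotientGroup.eq_one_iff a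
  -- `t` is isolated modulo `R`
  have hiso : IsIsolated (f ⟨t, htH⟩) := by
    intro y hy
    obtain ⟨⟨h, hh⟩, rfl⟩ := QuotientGroup.mk'_surjective (R.subgroupOf H) y
    obtain ⟨c, hc, r, hr, rfl⟩ := (Coprime.mem_sup_iff hR'C).1 hh
    set u := c * t * c⁻¹ with hu
    have hρ : r * t * r⁻¹ * t⁻¹ ∈ R := by
      obtain ⟨a, ha, b, hb, rfl⟩ := (Coprime.mem_sup_iff htnR).1 hr
      obtain ⟨i, rfl⟩ := mem_zpowers_iff.1 hb
      rw [show a * t ^ i * t * (a * t ^ i)⁻¹ * t⁻¹ = a * (t * a⁻¹ * t⁻¹) by group]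
      exact R.mul_mem ha ((mem_normalizer_iff.1 htn a⁻¹).1 (R.inv_mem ha))
    have hρc : c * (r * t * r⁻¹ * t⁻¹) * c⁻¹ = r * t * r⁻¹ * t⁻¹ := by
      rw [(mem_centralizer_iff.1 hc _ hρ).symm, mul_inv_cancel_right]
    have hhu : c * r * t * (c * r)⁻¹ = r * t * r⁻¹ * t⁻¹ * u := by
      conv_rhs => rw [← hρc]
      rw [hu]; group
    have huH : u ∈ H := H.mul_mem (H.mul_mem (hCH hc) htH) (H.inv_mem (hCH hc))
    have hfu : f ⟨c * r, hh⟩ * f ⟨t, htH⟩ * (f ⟨c * r, hh⟩)⁻¹ = f ⟨u, huH⟩ := by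
      rw [← map_inv, ← map_mul, ← map_mul]
      refine ((hfeq _ _).2 ?_)
      show (c * r * t * (c * r)⁻¹)⁻¹ * u ∈ R
      rw [hhu, show (r * t * r⁻¹ * t⁻¹ * u)⁻¹ * u = u⁻¹ * (r * t * r⁻¹ * t⁻¹)⁻¹ * u by group]
      exact (mem_normalizer_iff''.1 (hHR huH) _).1 (R.inv_mem hρ)
    rw [hfu] at hy ⊢
    -- `u` normalises `R'`
    have hut : u * t * u⁻¹ * t⁻¹ ∈ R := by
      have h1 : f (⟨u, huH⟩ * ⟨t, htH⟩ * ⟨u, huH⟩⁻¹ * ⟨t, htH⟩⁻¹) = 1 := by
        rw [map_mul, map_mul, map_mul, map_inv, map_inv, hy.eq.symm, mul_inv_cancel_right, mul_inv_cancel]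
      exact (hf1 _).1 h1
    have hun : u ∈ normalizer (R' : Set G) := by
      refine Coprime.mem_normalizer_of_forall fun x hx => ?_
      have hle : R' ≤ R'.comap (MulAut.conj u).toMonoidHom := by
        refine sup_le (fun a ha => ?_) (zpowers_le.2 ?_)
        · exact mem_sup_left ((mem_normalizer_iff.1 (hHR huH) a).1 ha)
        · show u * t * u⁻¹ ∈ R'
          have := mul_mem (mem_sup_left hut : u * t * u⁻¹ * t⁻¹ ∈ R')
            (mem_sup_right (mem_zpowers t) : t ∈ R')
          rwa [inv_mul_cancel_right] at this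
      exact hle hx
    have huT : u ∈ classOf T := classOf_conj c (mem_classOf_of_mem htT)
    have hW : IsPGroup 2 ↥(R' ⊔ zpowers u) :=
      hR'2.to_sup_of_normal_left' (hTc.isPGroup_zpowers huT) (zpowers_le.2 hun)
    have hv : t⁻¹ * u ∈ R := by
      refine hcl _ (hTc.mul _ hW _ (inv_mem (mem_sup_left (mem_sup_right (mem_zpowers t)))) _
        (mem_sup_right (mem_zpowers u)) (mem_classOf_of_mem (T.inv_mem htT)) huT) ?_
      rw [hu, show t⁻¹ * (c * t * c⁻¹) = (t⁻¹ * c * t) * c⁻¹ by group]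
      exact C.mul_mem ((mem_normalizer_iff''.1 (hR'C (mem_sup_right (mem_zpowers t))) c).1 hc) (C.inv_mem hc)
    exact ((hfeq _ _).2 hv).symm
  have hord : ∃ k, orderOf (f ⟨t, htH⟩) = 2 ^ k := ⟨1, by
    rw [pow_one]
    refine orderOf_eq_prime ?_ fun e => htR ((hf1 _).1 e)
    rw [pow_two, ← map_mul]
    exact (hf1 _).2 ht2⟩
  have hZ := ZStar.zStar_pElement ZStarPrimePower.uniqueInvolutionZStar_proved hord hiso
  -- inside `C`
  set g : ↥C →* ↥H ⧸ R.subgroupOf H := f.comp (inclusion hCH) with hg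
  set J := (pPrimeCore 2 (↥H ⧸ R.subgroupOf H)).comap g with hJ
  set Zc := g.ker with hZc
  set q := QuotientGroup.mk' (pPrimeCore 2 ↥C) with hq
  have hqs : Function.Surjective q := QuotientGroup.mk'_surjective _
  have hZR : ∀ z ∈ Zc, ((z : ↥C) : G) ∈ R := fun z hz => (hf1 _).1 (MonoidHom.mem_ker.1 hz)
  have hZcent : ∀ z ∈ Zc, ∀ c : ↥C, z * c = c * z := fun z hz c =>
    Subtype.ext (mem_centralizer_iff.1 c.2 _ (hZR z hz))
  have hJle : J.map q ≤ Zc.map q := by
    haveI : (Zc.map q).Normal := Normal.map inferInstance q hqs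
    haveI : (J.map q).Normal := Normal.map inferInstance q hqs
    refine ProductMeet.le_of_central (Cores.pPrimeCore_quotient_self 2) ?_ ?_ ?_ ?_
    · exact map_mono fun z hz => by
        rw [hJ, mem_comap, MonoidHom.mem_ker.1 hz]; exact one_mem _
    · have hR2 : IsPGroup 2 ↥R := hR'2.to_le le_sup_left
      refine IsPGroup.map (fun z => ?_) q
      obtain ⟨k, hk⟩ := hR2 ⟨_, hZR z z.2⟩
      have h1 : ((z : ↥C) : G) ^ 2 ^ k = 1 := congrArg Subtype.val hk
      exact ⟨k, Subtype.ext (Subtype.ext h1)⟩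
    · rintro _ ⟨x, -, rfl⟩
      refine mem_centralizer_iff.2 ?_
      rintro _ ⟨z, hz, rfl⟩
      rw [← map_mul, ← map_mul, hZcent z hz x]
    · rw [relIndex_map_map]
      have e : J ⊔ q.ker = J ⊔ (Zc ⊔ q.ker) := by
        rw [← sup_assoc, sup_eq_left.2 (show Zc ≤ J from fun z hz => by
          rw [hJ, mem_comap, MonoidHom.mem_ker.1 hz]; exact one_mem _)]
      haveI : (Zc ⊔ q.ker).Normal := inferInstance
      rw [e, relIndex_sup_right]
      refine Nat.Coprime.coprime_dvd_left (relIndex_dvd_of_le_left J le_sup_left) ?_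
      rw [hZc, relIndex_ker]
      exact (Cores.coprime_card_pPrimeCore (G := ↥H ⧸ R.subgroupOf H) 2).coprime_dvd_left
        (Subgroup.card_dvd_of_le (map_le_iff_le_comap.2 le_rfl))
  -- commutators with `t`
  have hdC : ∀ c : ↥C, t * c * t⁻¹ * (c : G)⁻¹ ∈ C := fun c =>
    C.mul_mem ((mem_normalizer_iff.1 (hR'C (mem_sup_right (mem_zpowers t))) _).1 c.2) (C.inv_mem c.2)
  let d : ↥C → ↥C := fun c => ⟨_, hdC c⟩
  have hdJ : ∀ c : ↥C, q (d c) ∈ Zc.map q := fun c => by
    refine hJle (mem_map_of_mem q ?_)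
    show g (d c) ∈ pPrimeCore 2 (↥H ⧸ R.subgroupOf H)
    have h1 := inv_mem (hZ (g c))
    have e : g (d c) = (g c * f ⟨t, htH⟩ * (g c)⁻¹ * (f ⟨t, htH⟩)⁻¹)⁻¹ := by
      simp only [hg, MonoidHom.comp_apply]
      have e2 : inclusion hCH (d c) =
          (inclusion hCH c * ⟨t, htH⟩ * (inclusion hCH c)⁻¹ * (⟨t, htH⟩ : ↥H)⁻¹)⁻¹ :=
        Subtype.ext (by simp [d, mul_assoc])
      rw [e2]
      simp only [map_mul, map_inv]
    rwa [e]
  set M' := (perfectCore R).subgroupOf C with hM'
  have hM'map : M'.map C.subtype = perfectCore R := map_subgroupOf_eq_of_le (perfectCore_le R)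
  have hpM' : ⁅M', M'⁆ = M' := by
    refine map_injective C.subtype_injective ?_
    rw [map_commutator, hM'map, perfectCore_perfect]
  have hZq : ∀ z ∈ Zc.map q, ∀ x, z * x = x * z := by
    rintro _ ⟨z, hz, rfl⟩ x
    obtain ⟨c, rfl⟩ := hqs x
    rw [← map_mul, ← map_mul, hZcent z hz c]
  have hM'O : ∀ m ∈ M', d m ∈ pPrimeCore 2 ↥C := by
    intro m hm
    haveI : IsMulCommutative ↥(Zc.map q) := ⟨⟨fun a b => Subtype.ext (hZq a a.2 b)⟩⟩
    let ψ : ↥M' →* ↥(Zc.map q) :=
      { toFun := fun c => ⟨q (d c), hdJ c⟩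
        map_one' := Subtype.ext (by
          show q (d 1) = 1
          rw [show d 1 = 1 from Subtype.ext (by simp [d]), map_one])
        map_mul' := fun a b => Subtype.ext (by
          show q (d ((a : ↥C) * b)) = q (d a) * q (d b)
          have e : d ((a : ↥C) * b) = d a * ((a : ↥C) * d b * (a : ↥C)⁻¹) :=
            Subtype.ext (by simp [d, mul_assoc])
          rw [e, map_mul, map_mul, map_mul, map_inv, ← hZq _ (hdJ b) (q a), mul_inv_cancel_right]) }
    have hs : Group.IsSolvable ↥ψ.range :=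
      Group.isSolvable_of_comm fun a b => Subtype.ext (Subtype.ext (hZq _ (a.1).2 _))
    have h0 := eq_bot_of_perfect hs (by rw [MonoidHom.range_eq_map, ← map_commutator, perfect_top hpM'])
    have h1 : ψ ⟨m, hm⟩ = 1 := mem_bot.1 (h0 ▸ (⟨_, rfl⟩ : ψ ⟨m, hm⟩ ∈ ψ.range))
    exact (QuotientGroup.eq_one_iff _).1 (congrArg Subtype.val h1)
  -- the residual is covered by `C(R')`
  have hC'C : centralizer (R' : Set G) ≤ C := centralizer_le (le_sup_left : R ≤ R')
  set φ := q.comp (inclusion hC'C) with hφ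
  have hcover : M'.map q ≤ φ.range := by
    rintro _ ⟨m, hm, rfl⟩
    have htO : t ∈ normalizer (oC R : Set G) := normalizer_le_oC R htn
    have hmt : t * (m : G) * t⁻¹ * (m : G)⁻¹ ∈ oC R := ⟨d m, hM'O m hm, rfl⟩
    have hall : ∀ a ∈ zpowers t, a * (m : G) * a⁻¹ * (m : G)⁻¹ ∈ oC R := by
      intro a ha
      obtain ⟨k, rfl⟩ := Submonoid.mem_powers_iff a t |>.1 (mem_powers_iff_mem_zpowers.2 ha)
      induction k with
      | zero => simp
      | succ k ihk =>
        have h1 := (mem_normalizer_iff.1 htO _).1 (ihk (pow_mem (mem_zpowers t) k))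
        have h2 := mul_mem h1 hmt
        convert h2 using 1
        rw [pow_succ']; group
    obtain ⟨n, hn, hnm⟩ := Signalizer.exists_fixed_in_coset
      ((hTc.isPGroup_zpowers (mem_classOf_of_mem htT)))
      (zpowers_le.2 htO) (not_two_dvd_oC R) (m : G) hall
    have hnC : n * (m : G) ∈ centralizer (R' : Set G) := by
      refine mem_centralizer_iff.2 fun x hx => ?_
      have hle : R' ≤ centralizer ({n * (m : G)} : Set G) := by
        refine sup_le (fun a ha => mem_centralizer_singleton_iff.2 ?_) fun a ha =>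
          mem_centralizer_singleton_iff.2 (mem_centralizer_iff.1 hnm a ha)
        exact mem_centralizer_iff.1 (C.mul_mem (oC_le R hn) m.2) a ha
      exact mem_centralizer_singleton_iff.1 (hle hx)
    refine ⟨⟨_, hnC⟩, ?_⟩
    show q ⟨n * (m : G), _⟩ = q m
    obtain ⟨n', hn', rfl⟩ := hn
    rw [show (⟨(C.subtype n' : G) * m, hC'C hnC⟩ : ↥C) = n' * m from rfl, map_mul,
      show q n' = 1 from (QuotientGroup.eq_one_iff _).2 hn', one_mul]
  have hpq : ⁅M'.map q, M'.map q⁆ = M'.map q := by rw [← map_commutator, hpM']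
  set Lb := ((perfectCore T).subgroupOf C).map q with hLb
  set Ob := ((oC R').subgroupOf C).map q with hOb
  set Wb := φ.range with hWb
  have hLT : perfectCore T ≤ perfectCore R := perfectCore_anti hRT
  have hLC : perfectCore T ≤ C := hLT.trans (perfectCore_le R)
  have hOC : oC R' ≤ C := (oC_le R').trans hC'C
  have hMle : M'.map q ≤ Lb ⊔ Ob := by
    refine (perfect_le_map φ hpq hcover).trans ?_
    rw [hLb, hOb, ← Subgroup.map_sup, ← subgroupOf_sup hLC hOC]
    rintro _ ⟨w, hw, rfl⟩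
    exact ⟨inclusion hC'C w, mem_subgroupOf.2 (ih ⟨w, hw, rfl⟩), rfl⟩
  -- `O(C(R'))` and the residual meet trivially
  have hObn : Wb ≤ normalizer (Ob : Set (↥C ⧸ pPrimeCore 2 ↥C)) := by
    rintro _ ⟨w, rfl⟩
    refine Coprime.mem_normalizer_of_forall ?_
    rintro _ ⟨o, ⟨o', ho', e⟩, rfl⟩
    refine ⟨inclusion hC'C w * o * (inclusion hC'C w)⁻¹, mem_subgroupOf.2 ?_, by simp [hφ]⟩
    refine ⟨w * o' * w⁻¹, (Cores.pPrimeCore_normal 2 _).conj_mem o' ho' w, ?_⟩
    simp only [Subgroup.coe_subtype] at e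
    simp [e]
  have hMn : (M'.map q).Normal := by
    refine Normal.map ?_ q hqs
    exact normal_subgroupOf_of_le_normalizer ((centralizer_le_normalizer _).trans (normalizer_le R))
  have hdisj : M'.map q ⊓ Ob = ⊥ := by
    set I := M'.map q ⊓ Ob with hI
    have hIn : (I.subgroupOf (M'.map q)).Normal := by
      refine normal_subgroupOf_of_le_normalizer fun x hx => Coprime.mem_normalizer_of_forall fun y hy => ?_
      exact ⟨hMn.conj_mem y hy.1 x, (mem_normalizer_iff.1 (hObn (hcover hx)) y).1 hy.2⟩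
    have hsub : IsSubnormal I := by
      have h1 := IsSubnormal.trans' (H := I.subgroupOf (M'.map q)) (Normal.isSubnormal hIn)
        (Normal.isSubnormal hMn)
      rwa [map_subgroupOf_eq_of_le inf_le_left] at h1
    have hodd : (Nat.card ↥I).Coprime 2 := by
      refine ((Nat.prime_two.coprime_iff_not_dvd.2 (not_two_dvd_oC R')).symm).coprime_dvd_left ?_
      refine (Subgroup.card_dvd_of_le inf_le_right).trans ?_
      rw [hOb, ← Nat.card_congr (subgroupOfEquivOfLe hOC).toEquiv]
      exact Subgroup.card_map_dvd _ _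
    have h1 := Cores.le_pPrimeCore_of_isSubnormal hsub hodd
    rwa [Cores.pPrimeCore_quotient_self, le_bot_iff] at h1
  have hLM : Lb ≤ M'.map q := map_mono fun x hx => mem_subgroupOf.2 (hLT (mem_subgroupOf.1 hx))
  have hMq : M'.map q ≤ Lb := by
    intro x hx
    have hLW : Lb ≤ normalizer (Ob : Set (↥C ⧸ pPrimeCore 2 ↥C)) := (hLM.trans hcover).trans hObn
    have hx' := hMle hx
    rw [sup_comm] at hx'
    obtain ⟨o, ho, l, hl, rfl⟩ := (Coprime.mem_sup_iff hLW).1 hx'
    have ho1 : o = 1 := mem_bot.1 (hdisj ▸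
      (⟨by simpa using mul_mem hx (inv_mem (hLM hl)), ho⟩ : o ∈ M'.map q ⊓ Ob))
    rwa [ho1, one_mul]
  -- back in `G`
  intro m hm
  have hmC : m ∈ C := perfectCore_le R hm
  obtain ⟨l, hl, e⟩ := hMq (mem_map_of_mem q (show (⟨m, hmC⟩ : ↥C) ∈ M' from mem_subgroupOf.2 hm))
  have h1 : (l : ↥C)⁻¹ * ⟨m, hmC⟩ ∈ pPrimeCore 2 ↥C := QuotientGroup.eq.1 e
  rw [show m = (l : G) * (((l⁻¹ * ⟨m, hmC⟩ : ↥C)) : G) by simp]
  exact mul_mem_sup (mem_subgroupOf.1 hl) ⟨_, h1, rfl⟩

/-- **The climb.** -/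
theorem climb (S : Sylow 2 G) {T : Subgroup G} (hT : IsStronglyClosed T (S : Subgroup G)) :
    ∀ R : Subgroup G, R ≤ T → Closing T R → perfectCore R ≤ perfectCore T ⊔ oC R := by
  classical
  haveI : Fact (Nat.Prime 2) := ⟨Nat.prime_two⟩
  have aux : ∀ (k : ℕ) (R : Subgroup G), Nat.card ↥T - Nat.card ↥R = k → R ≤ T → Closing T R →
      perfectCore R ≤ perfectCore T ⊔ oC R := by
    intro k
    induction k using Nat.strong_induction_on with
    | _ k ihk =>
    intro R hk hRT hcl
    rcases eq_or_ne R T with rfl | hne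
    · exact le_sup_left
    have hT2 : IsPGroup 2 ↥T := S.isPGroup'.to_le hT.1
    obtain ⟨x, hxT, hxn, hxR⟩ := Signalizer.exists_mem_normalizer_not_mem hT2 hRT hne
    have hex : ∃ j, x ^ 2 ^ j ∈ R := by
      obtain ⟨j, hj⟩ := hT2 ⟨x, hxT⟩
      exact ⟨j, by rw [show x ^ 2 ^ j = 1 from congrArg Subtype.val hj]; exact one_mem _⟩
    obtain ⟨i, hi⟩ : ∃ i, Nat.find hex = i + 1 := by
      refine Nat.exists_eq_succ_of_ne_zero fun h => hxR ?_
      simpa [h] using Nat.find_spec hex
    set t := x ^ 2 ^ i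
    have htR : t ∉ R := Nat.find_min hex (by omega)
    have ht2 : t * t ∈ R := by
      have := Nat.find_spec hex
      rwa [hi, pow_succ, pow_mul, pow_two] at this
    have htT : t ∈ T := pow_mem hxT _
    refine climb_step S hT hRT hcl htT htR (pow_mem hxn _) ht2 ?_
    have hle : R ⊔ zpowers t ≤ T := sup_le hRT (zpowers_le.2 htT)
    have hlt : Nat.card ↥R < Nat.card ↥(R ⊔ zpowers t) := by
      refine lt_of_le_of_ne (Subgroup.card_le_of_le le_sup_left) fun e => htR ?_
      rw [eq_of_le_of_card_ge le_sup_left e.ge]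
      exact mem_sup_right (mem_zpowers t)
    have hle' := Subgroup.card_le_of_le hle
    refine ihk _ ?_ _ rfl hle fun y hy hyc => mem_sup_left ?_
    · omega
    · exact hcl y hy (centralizer_le (le_sup_left : R ≤ R ⊔ zpowers t) hyc)
  exact fun R => aux _ R rfl

end Cfsg.Agent.ClosedCent
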