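import Cfsg.Agent.Lib.ClosedCent.Kind
import Cfsg.Agent.Lib.Goldschmidt.General.Local

/-!
# Perfect groups centralising an elementary strongly closed subgroup (owner: helper78, S1173)

* `perfect_top` : a perfect subgroup is perfect as a group
* `le_moved` : `A` lies in its part in `O₂(X)` times the moved components
* `centralizes_moved` : a perfect group centralising `A` centralises the moved components
* `centralizes_closed` : and all conjugates of `A`
-/

set_option autoImplicit false
set_option linter.unusedSectionVars false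
set_option linter.style.haveILetI false

namespace Cfsg.Agent.ClosedCent

open Cfsg Subgroup Cfsg.Agent.Components Cfsg.Agent.Goldschmidt Cfsg.Agent.Goldschmidt.General
open scoped commutatorElement

universe u

/-- A perfect subgroup is perfect as a group. -/
theorem perfect_top {G : Type u} [Group G] {L : Subgroup G} (hp : ⁅L, L⁆ = L) :
    ⁅(⊤ : Subgroup ↥L), (⊤ : Subgroup ↥L)⁆ = ⊤ := by
  refine Subgroup.map_injective L.subtype_injective ?_
  rw [map_commutator, ← MonoidHom.range_eq_map, range_subtype, hp]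

variable {X : Type u} [Group X] [Finite X] {T : Set X} {A : Subgroup X}

/-- Members lie in their part in `O₂` times the moved components. -/
theorem le_moved (L : Local X T A) :
    A ≤ (A ⊓ pCore 2 X) ⊔ ⨆ K : {K : Subgroup X // Moved A K}, (K : Subgroup X) := by
  classical
  have hT := L.elem
  set M := ⨆ K : {K : Subgroup X // Moved A K}, (K : Subgroup X)
  intro a ha
  have key : ∀ s : Finset (Subgroup X), (∀ K ∈ s, Cfsg.IsComponent K) →
      ∃ e ∈ M, e * a ∈ A ∧ ∀ K ∈ s, e * a ∈ centralizer (K : Set X) := by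
    intro s
    induction s using Finset.induction_on with
    | empty => exact fun _ => ⟨1, one_mem _, by rwa [one_mul], fun K hK => absurd hK (Finset.notMem_empty K)⟩
    | insert K s hKs ih =>
      intro hs
      obtain ⟨e, he, heA, hec⟩ := ih fun J hJ => hs J (Finset.mem_insert_of_mem hJ)
      have hK := hs K (Finset.mem_insert_self K s)
      by_cases hM : K ≤ centralizer (A : Set X)
      · refine ⟨e, he, heA, fun J hJ => ?_⟩
        rcases Finset.mem_insert.1 hJ with rfl | hJ
        · exact mem_centralizer_iff.2 fun k hk => (mem_centralizer_iff.1 (hM hk) _ heA).symm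
        · exact hec J hJ
      obtain ⟨q, hC⟩ := compData L ⟨hK, hM⟩
      have hnorm : fixer A K ≤ normalizer ((A ⊓ K : Subgroup X) : Set X) := fun f hf =>
        centralizer_le_normalizer _ (mem_centralizer_iff.2 fun y hy =>
          (hT.commute L.two hy.1 hf.1 (L.subset hy.1) (L.subset hf.1)).eq)
      obtain ⟨b, hb, f, hf, hbf⟩ := (Coprime.mem_sup_iff hnorm).1 (hC.sup.ge heA)
      refine ⟨b⁻¹ * e, mul_mem (inv_mem (le_iSup (fun K : {K : Subgroup X // Moved A K} => (K : Subgroup X))
        ⟨K, hK, hM⟩ hb.2)) he, ?_, fun J hJ => ?_⟩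
      · rw [mul_assoc]; exact A.mul_mem (A.inv_mem hb.1) heA
      have hf' : b⁻¹ * e * a = f := by rw [mul_assoc, ← hbf, inv_mul_cancel_left]
      rw [hf']
      rcases Finset.mem_insert.1 hJ with rfl | hJ'
      · exact hf.2
      · have hne : K ≠ J := fun h => hKs (h ▸ hJ')
        have hbJ : b ∈ centralizer (J : Set X) := by
          refine mem_centralizer_iff.2 fun j hj => ?_
          exact (commutatorElement_eq_one_iff_commute.1 (mem_bot.1
            (IsComponent.commutator_eq_bot hK (hs J hJ) hne ▸ commutator_mem_commutator hb.2 hj))).eq.symm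
        rw [← hf', mul_assoc]
        exact mul_mem (inv_mem hbJ) (hec J hJ')
  obtain ⟨e, he, heA, hec⟩ := key (Set.toFinite {K : Subgroup X | Cfsg.IsComponent K}).toFinset
    fun K hK => by simpa using hK
  have hlay : e * a ∈ centralizer (Cfsg.layer X : Set X) := by
    have h1 : Cfsg.layer X ≤ centralizer (zpowers (e * a) : Set X) :=
      layer_le fun K hK => le_centralizer_iff.1 (zpowers_le.2 (hec K (by simpa using hK)))
    exact le_centralizer_iff.1 h1 (mem_zpowers _)
  rw [show a = e⁻¹ * (e * a) by group]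
  exact mul_mem (mem_sup_right (inv_mem he))
    (mem_sup_left ⟨heA, ThreePrime.mem_pCore_of_centralizes_layer L.core hT (L.subset heA) hlay⟩)

/-- A perfect group centralising `A` centralises the moved components. -/
theorem centralizes_moved (hMain : ∀ (L : Type u) [Group L] [Finite L], MainAt L) (L : Local X T A)
    {P : Subgroup X} (hp : ⁅P, P⁆ = P) (hPA : P ≤ centralizer (A : Set X)) {K : Subgroup X}
    (hM : Moved A K) : P ≤ centralizer (K : Set X) := by
  haveI : Fact (Nat.Prime 2) := ⟨Nat.prime_two⟩
  have hK := hM.1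
  obtain ⟨q, Qb, h, c⟩ := exists_chart L hM
  obtain ⟨v, hvA, hvK, hvZ⟩ := exists_mem_inter L hK (exists_member L hM)
  have hnorm : P ≤ normalizer (K : Set X) := by
    intro l hl
    have hK' := IsComponent.conj hK l
    have hlv : l * v * l⁻¹ = v := by
      rw [(mem_centralizer_iff.1 (hPA hl) v hvA).symm, mul_inv_cancel_right]
    by_cases e : K.map (MulAut.conj l).toMonoidHom = K
    · refine Coprime.mem_normalizer_of_forall fun k hk => ?_
      have h1 : MulAut.conj l k ∈ K.map (MulAut.conj l).toMonoidHom := ⟨k, hk, rfl⟩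
      rwa [e, MulAut.conj_apply] at h1
    exfalso
    refine hvZ (mem_centerOf.2 ⟨hvK, fun k hk => ?_⟩)
    have hv' : v ∈ K.map (MulAut.conj l).toMonoidHom := ⟨v, hvK, hlv⟩
    exact (commutatorElement_eq_one_iff_commute.1 (mem_bot.1
      (IsComponent.commutator_eq_bot hK hK' (Ne.symm e) ▸ commutator_mem_commutator hk hv'))).eq
  haveI : IsSimpleGroup (↥K ⧸ center ↥K) := hK.2.2
  have hncomm : ∃ x y : ↥K ⧸ center ↥K, x * y ≠ y * x := by
    by_contra hno
    push Not at hno
    haveI : Group.IsSolvable (↥K ⧸ center ↥K) := Group.isSolvable_of_comm hno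
    haveI : Group.IsSolvable (center ↥K) := Group.isSolvable_of_comm fun a b =>
      Subtype.ext (mem_center_iff.1 b.2 a)
    exact IsQuasisimple.not_isSolvable hK.2 (Group.isSolvable_of_ker_le_range (center ↥K).subtype (cproj K)
      (by rw [QuotientGroup.ker_mk', range_subtype]))
  have hv1 : cproj K ⟨v, hvK⟩ ≠ 1 := fun h => hvZ ⟨⟨v, hvK⟩, cproj_eq_one.1 h, rfl⟩
  have hshape := simpleShape_of_mainAt hMain (↥K ⧸ center ↥K) inferInstance hncomm
    ⟨cproj K '' (K.subtype ⁻¹' T), (L.elem.preimage K.subtype_injective).image (center ↥K),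
      cproj K ⟨v, hvK⟩, ⟨⟨v, hvK⟩, L.mem_T hvA, rfl⟩, hv1⟩
  let φ : ↥P →* MulAut (↥K ⧸ center ↥K) :=
    { toFun := fun l => ThreePrime.quotAut (hnorm l.2)
      map_one' := MulEquiv.ext fun z => by
        obtain ⟨k, rfl⟩ := cproj_surjective K z
        rw [ThreePrime.quotAut_mk, MulAut.one_apply]
        exact congrArg _ (Subtype.ext (by simp))
      map_mul' := fun a b => MulEquiv.ext fun z => by
        obtain ⟨k, rfl⟩ := cproj_surjective K z
        rw [MulAut.mul_apply, ThreePrime.quotAut_mk, ThreePrime.quotAut_mk, ThreePrime.quotAut_mk]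
        exact congrArg _ (Subtype.ext (by simp [mul_assoc])) }
  have hφ : φ = 1 := hom_eq_one (perfect_top hp) hshape Qb φ fun l z hz => by
    obtain ⟨b, hb, rfl⟩ := c.onto z hz
    show ThreePrime.quotAut (hnorm l.2) (cproj K b) = cproj K b
    rw [ThreePrime.quotAut_mk]
    exact congrArg _ (Subtype.ext
      (show (l : X) * b * (l : X)⁻¹ = b by
        rw [(mem_centralizer_iff.1 (hPA l.2) (b : X) hb).symm, mul_inv_cancel_right]))
  exact fun l hl => ThreePrime.centralizes_of_quotAut hK (hnorm hl)
    (DFunLike.congr_fun hφ (⟨l, hl⟩ : ↥P))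

/-- A perfect group centralising `A` centralises every member of the closed set. -/
theorem centralizes_closed (hMain : ∀ (L : Type u) [Group L] [Finite L], MainAt L) (L : Local X T A)
    {P : Subgroup X} (hp : ⁅P, P⁆ = P) (hPA : P ≤ centralizer (A : Set X)) :
    P ≤ centralizer T := by
  haveI : Fact (Nat.Prime 2) := ⟨Nat.prime_two⟩
  haveI hQn : (pCore 2 X).Normal := Cores.pCore_normal 2 X
  -- the conjugates of `A` are centralised
  have hconj : ∀ g : X, ∀ a ∈ A, g * a * g⁻¹ ∈ centralizer (P : Set X) := by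
    intro g
    suffices h : A ≤ (centralizer (P : Set X)).comap (MulAut.conj g).toMonoidHom from h
    refine (le_moved L).trans (sup_le (fun b hb => ?_) (iSup_le fun K k hk => ?_))
    · have h1 : g * b * g⁻¹ ∈ A := L.max (A ⊔ pCore 2 X)
        (IsPGroup.to_sup_of_normal_right L.two (Cores.isPGroup_pCore 2 X)) le_sup_left _
        (mem_sup_right (hQn.conj_mem b hb.2 g)) (L.elem.closed.conj g b (L.mem_T hb.1))
      exact le_centralizer_iff.1 hPA h1
    · exact le_centralizer_iff.1 (centralizes_moved hMain L hp hPA (moved_conj L K.2 g)) ⟨k, hk, rfl⟩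
  intro l hl
  refine mem_centralizer_iff.2 fun t ht => ?_
  -- `t` has a conjugate in `A`
  obtain ⟨P₀, hP₀⟩ := (L.elem.isPGroup_zpowers ht).exists_le_sylow
  obtain ⟨S, hS⟩ := L.two.exists_le_sylow
  obtain ⟨g, hg⟩ := MulAction.exists_smul_eq X P₀ S
  have h1 : g * t * g⁻¹ ∈ (S : Subgroup X) := by
    rw [← hg, Sylow.coe_subgroup_smul, Coprime.mem_conj]
    simpa [mul_assoc] using hP₀ (mem_zpowers t)
  have h2 := L.max _ S.isPGroup' hS _ h1 (L.elem.closed.conj g t ht)
  have h3 := hconj g⁻¹ _ h2
  rw [show g⁻¹ * (g * t * g⁻¹) * g⁻¹⁻¹ = t by group] at h3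
  exact (mem_centralizer_iff.1 h3 l hl).symm

end Cfsg.Agent.ClosedCent
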