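import Cfsg.Agent.Lib.ClosedCent.Climb
import Cfsg.Agent.Lib.StrongAlperin.Main

/-!
# The residual of `C(T)` is strongly closed in the Sylow subgroup (owner: helper78; helper96 proposed the
same route)

* `closing_of_good` : `D ∩ T` is closing, for a link `D`
* `mem_of_mem_sup_oC` : the 2-elements of `S` in `L O(C(R))` lie in `L`
* `step` : a link element maps `D ∩ L` into `L`
* `stronglyClosed_inf` : `S ∩ C(T)^∞` is strongly closed in `S`
-/

set_option autoImplicit false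
set_option linter.unusedSectionVars false
set_option linter.style.haveILetI false

namespace Cfsg.Agent.ClosedCent

open Cfsg Subgroup Cfsg.Agent.ClosedPair
open scoped commutatorElement

universe u

variable {G : Type u} [Group G] [Finite G] {S : Sylow 2 G} {T D : Subgroup G}

/-- The normaliser of `D ≤ S` normalises `D ∩ T`. -/
theorem normalizer_le_normalizer_inf (hT : IsStronglyClosed T (S : Subgroup G))
    (hD : D ≤ (S : Subgroup G)) :
    normalizer (D : Set G) ≤ normalizer ((D ⊓ T : Subgroup G) : Set G) := fun g hg =>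
  Coprime.mem_normalizer_of_forall fun x hx => by
    have h1 : g * x * g⁻¹ ∈ D := (mem_normalizer_iff.1 hg x).1 hx.1
    exact ⟨h1, hT.2 x hx.2 g (hD h1)⟩

/-- For a link `D`, the members centralising `D ∩ T` lie in it. -/
theorem closing_of_good (hT : IsStronglyClosed T (S : Subgroup G))
    (hG : StrongAlperin.Good 2 (S : Subgroup G) D) : Closing T (D ⊓ T) := by
  classical
  haveI : Fact (Nat.Prime 2) := ⟨Nat.prime_two⟩
  obtain ⟨hDS, hfn, hcen, hrad, -⟩ := hG
  have hTc : Closed (classOf T) := closed_classOf S hT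
  set R := D ⊓ T with hR
  have hDR : D ≤ normalizer (R : Set G) :=
    le_normalizer.trans (normalizer_le_normalizer_inf hT hDS)
  set C := centralizer (R : Set G) with hC
  have hDC : D ≤ normalizer (C : Set G) := hDR.trans (normalizer_le_normalizer_centralizer R)
  set H₁ := C ⊔ D with hH₁
  have hH₁R : H₁ ≤ normalizer (R : Set G) := sup_le (centralizer_le_normalizer _) hDR
  have hH₁C : H₁ ≤ normalizer (C : Set G) := hH₁R.trans (normalizer_le_normalizer_centralizer R)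
  have hD2 : IsPGroup 2 ↥D := S.isPGroup'.to_le hDS
  obtain ⟨B, hDB, hB⟩ := Fusion.exists_isSylowIn_ge hD2 (le_sup_right : D ≤ H₁)
  suffices key : ∀ y ∈ B, y ∈ classOf T → y ∈ C → y ∈ R by
    intro x hx hxC
    obtain ⟨a, ha, hax⟩ := hB.exists_conj_le (hTc.isPGroup_zpowers hx)
      (zpowers_le.2 (mem_sup_left hxC))
    exact (mem_normalizer_iff.1 (hH₁R ha) x).2 (key _ (hax x (mem_zpowers x)) (hTc.conj a x hx)
      ((mem_normalizer_iff.1 (hH₁C ha) x).1 hxC))
  intro y hyB hy hyC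
  set U := hTc.sub B hB.2.1 with hU
  set V := U ⊓ (C ⊔ R) with hV
  have hRU : R ≤ U := fun r hr => ⟨hDB hr.1, mem_classOf_of_mem hr.2⟩
  have hRN : R ≤ normalizer (C : Set G) := (inf_le_left : R ≤ D).trans hDC
  by_cases hVD : V ≤ D
  · have hyD : y ∈ D := hVD ⟨⟨hyB, hy⟩, mem_sup_left hyC⟩
    exact ⟨hyD, (mem_classOf_iff hT (hDS hyD)).1 hy⟩
  exfalso
  have hDV : D ≤ normalizer (V : Set G) := fun d hd => Coprime.mem_normalizer_of_forall fun v hv => by
    refine ⟨⟨B.mul_mem (B.mul_mem (hDB hd) hv.1.1) (B.inv_mem (hDB hd)), hTc.conj d v hv.1.2⟩, ?_⟩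
    have hle : C ⊔ R ≤ (C ⊔ R).comap (MulAut.conj d).toMonoidHom :=
      sup_le (fun c hc => mem_sup_left ((mem_normalizer_iff.1 (hDC hd) c).1 hc))
        fun r hr => mem_sup_right ((mem_normalizer_iff.1 (hDR hd) r).1 hr)
    exact hle hv.2
  have hne : D ≠ D ⊔ V := fun e => hVD (le_sup_right.trans e.ge)
  obtain ⟨w, hw, hwn, hwD⟩ := Signalizer.exists_mem_normalizer_not_mem
    (hB.2.1.to_le (sup_le hDB (show V ≤ B from fun v hv => hv.1.1))) le_sup_left hne
  rw [sup_comm] at hw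
  obtain ⟨v, hv, d, hd, rfl⟩ := (Coprime.mem_sup_iff hDV).1 hw
  have hvn : v ∈ normalizer (D : Set G) := by
    have := mul_mem hwn (inv_mem (le_normalizer hd))
    rwa [mul_inv_cancel_right] at this
  have hvD : v ∉ D := fun h => hwD (D.mul_mem h hd)
  obtain ⟨c, hc, r, hr, rfl⟩ := (Coprime.mem_sup_iff hRN).1 hv.2
  have hcU : c ∈ U := by simpa using U.mul_mem hv.1 (U.inv_mem (hRU hr))
  have hcn : c ∈ normalizer (D : Set G) := by
    have := mul_mem hvn (inv_mem (le_normalizer hr.1))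
    rwa [mul_inv_cancel_right] at this
  have hcD : c ∉ D := fun h => hvD (D.mul_mem h hr.1)
  -- the stabiliser of `1 ≤ R ≤ D`
  set N := normalizer (D : Set G) with hN
  have hCn : N ≤ normalizer (C : Set G) :=
    (normalizer_le_normalizer_inf hT hDS).trans (normalizer_le_normalizer_centralizer R)
  have hRn : N ≤ normalizer (R : Set G) := normalizer_le_normalizer_inf hT hDS
  let K : Subgroup ↥N :=
    { carrier := {n | (n : G) ∈ C ∧ ∀ d ∈ D, (n : G) * d * (n : G)⁻¹ * d⁻¹ ∈ R}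
      one_mem' := ⟨one_mem C, fun d _ => by simp⟩
      mul_mem' := fun {a b} ha hb => ⟨C.mul_mem ha.1 hb.1, fun d hd => by
        have h1 := hb.2 d hd
        rw [Subgroup.coe_mul, show (a : G) * b * d * ((a : G) * b)⁻¹ * d⁻¹
          = (a : G) * ((b : G) * d * (b : G)⁻¹ * d⁻¹) * (a : G)⁻¹ * ((a : G) * d * (a : G)⁻¹ * d⁻¹) by group,
          (mem_centralizer_iff.1 ha.1 _ h1).symm, mul_inv_cancel_right]
        exact R.mul_mem h1 (ha.2 d hd)⟩
      inv_mem' := fun {a} ha => ⟨C.inv_mem ha.1, fun d hd => by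
        have hd' : (a : G)⁻¹ * d * a ∈ D := by simpa using (mem_normalizer_iff.1 (inv_mem a.2) d).1 hd
        have h1 := R.inv_mem (ha.2 _ hd')
        rw [InvMemClass.coe_inv]
        convert h1 using 1
        group⟩ }
  have hKn : K.Normal := ⟨fun a ha g => ⟨(mem_normalizer_iff.1 (hCn g.2) _).1 ha.1, fun d hd => by
    have hd' : (g : G)⁻¹ * d * g ∈ D := by simpa using (mem_normalizer_iff.1 (inv_mem g.2) d).1 hd
    have h1 := (mem_normalizer_iff.1 (hRn g.2) _).1 (ha.2 _ hd')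
    rw [Subgroup.coe_mul, Subgroup.coe_mul, InvMemClass.coe_inv]
    convert h1 using 1
    group⟩⟩
  have hcK : (⟨c, hcn⟩ : ↥N) ∈ K := ⟨hc, fun d hd => by
    have h1 : c * d * c⁻¹ * d⁻¹ ∈ D := D.mul_mem ((mem_normalizer_iff.1 hcn d).1 hd) (D.inv_mem hd)
    have h2 : c * d * c⁻¹ * d⁻¹ ∈ classOf T :=
      (show c * d * c⁻¹ * d⁻¹ ∈ U by
        rw [show c * d * c⁻¹ * d⁻¹ = c * (d * c⁻¹ * d⁻¹) by group]
        exact U.mul_mem hcU ⟨B.mul_mem (B.mul_mem (hDB hd) (B.inv_mem hcU.1)) (B.inv_mem (hDB hd)),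
          hTc.conj d _ (hTc.inv_mem hcU.2)⟩).2
    exact ⟨h1, (mem_classOf_iff hT (hDS h1)).1 h2⟩⟩
  -- its image in `N / O(N)` is a 2-group
  set f := QuotientGroup.mk' (pPrimeCore 2 ↥N) with hf
  have hCle : ∀ n : ↥N, (n : G) ∈ D ⊔ centralizer (D : Set G) → n ∈ pPrimePCore 2 ↥N := fun n hn => by
    rw [← hrad] at hn
    obtain ⟨n', hn', e⟩ := hn
    rwa [← Subtype.ext e]
  have hK2 : IsPGroup 2 ↥(K.map f) := by
    rintro ⟨_, n, hn, rfl⟩
    obtain ⟨a, ha⟩ := (S.isPGroup'.to_le ((inf_le_left : R ≤ D).trans hDS)).exists_card_eq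
    have hpow : ∀ d ∈ D, ∀ i : ℕ, (n : G) ^ i * d * ((n : G) ^ i)⁻¹
        = ((n : G) * d * (n : G)⁻¹ * d⁻¹) ^ i * d := by
      intro d hd i
      induction i with
      | zero => simp
      | succ i ihi =>
        set ρ := (n : G) * d * (n : G)⁻¹ * d⁻¹ with hρ
        have h1 : ρ ^ i * n = n * ρ ^ i :=
          ((show Commute ρ (n : G) from mem_centralizer_iff.1 hn.1 ρ (hn.2 d hd)).pow_left i).eq
        calc (n : G) ^ (i + 1) * d * ((n : G) ^ (i + 1))⁻¹
            = (n : G) * ((n : G) ^ i * d * ((n : G) ^ i)⁻¹) * (n : G)⁻¹ := by rw [pow_succ']; group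
          _ = (n : G) * ρ ^ i * d * (n : G)⁻¹ := by rw [ihi]; group
          _ = ρ ^ i * (n * d * (n : G)⁻¹ * d⁻¹) * d := by rw [← h1]; group
          _ = ρ ^ (i + 1) * d := by rw [← hρ, pow_succ]
    have hnD : ((n ^ 2 ^ a : ↥N) : G) ∈ centralizer (D : Set G) := by
      refine mem_centralizer_iff.2 fun d hd => ?_
      have h1 : ((n : G) * d * (n : G)⁻¹ * d⁻¹) ^ 2 ^ a = 1 := by
        rw [← ha]
        exact congrArg Subtype.val (pow_card_eq_one' (x := (⟨_, hn.2 d hd⟩ : ↥R)))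
      have h2 := hpow d hd (2 ^ a)
      rw [h1, one_mul, mul_inv_eq_iff_eq_mul] at h2
      rw [SubmonoidClass.coe_pow]
      exact h2.symm
    have h3 : f (n ^ 2 ^ a) ∈ pCore 2 (↥N ⧸ pPrimeCore 2 ↥N) :=
      hCle _ (mem_sup_right hnD)
    obtain ⟨b, hb⟩ := (Cores.isPGroup_pCore 2 (↥N ⧸ pPrimeCore 2 ↥N)) ⟨_, h3⟩
    refine ⟨a + b, Subtype.ext ?_⟩
    rw [SubmonoidClass.coe_pow, OneMemClass.coe_one, pow_add, pow_mul, ← map_pow]
    exact congrArg Subtype.val hb
  have hcO : (⟨c, hcn⟩ : ↥N) ∈ pPrimePCore 2 ↥N :=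
    Cores.le_pCore (hKn.map _ (QuotientGroup.mk'_surjective _)) hK2 ⟨_, hcK, rfl⟩
  have hcDC : c ∈ D ⊔ centralizer (D : Set G) := by rw [← hrad]; exact ⟨_, hcO, rfl⟩
  obtain ⟨d₀, hd₀, z, hz, e⟩ := (Coprime.mem_sup_iff (centralizer_le_normalizer _)).1 hcDC
  refine hcD (e ▸ D.mul_mem hd₀ ?_)
  -- centricity
  have hzB : z ∈ B := by
    have := B.mul_mem (B.inv_mem (hDB hd₀)) hcU.1
    rwa [← e, inv_mul_cancel_left] at this
  obtain ⟨n, hn, hnz⟩ := (AlperinFamily.isSylowIn_of_fn S.isPGroup' hfn).exists_conj_le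
    (hB.2.1.to_le (zpowers_le.2 hzB)) (zpowers_le.2 (centralizer_le_normalizer _ hz))
  have h4 : n * z * n⁻¹ ∈ D := hcen ⟨(hnz z (mem_zpowers z)).1,
    (mem_normalizer_iff.1 (normalizer_le_normalizer_centralizer D hn) z).1 hz⟩
  exact (mem_normalizer_iff.1 hn z).2 h4

/-- The elements of `S` in `L O(C(R))` lie in `L`. -/
theorem mem_of_mem_sup_oC {L R : Subgroup G} (hSL : (S : Subgroup G) ≤ normalizer (L : Set G))
    (hLR : L ≤ centralizer (R : Set G)) {s : G} (hs : s ∈ (S : Subgroup G)) (hs' : s ∈ L ⊔ oC R) :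
    s ∈ L := by
  haveI : Fact (Nat.Prime 2) := ⟨Nat.prime_two⟩
  set X := L ⊔ oC R with hX
  set Q := (S : Subgroup G) ⊓ X with hQ
  suffices h : Q ≤ (S : Subgroup G) ⊓ L from (h ⟨hs, hs'⟩).2
  refine (eq_of_le_of_card_ge (inf_le_inf_left _ le_sup_left) ?_).ge
  have hLn : L ≤ normalizer (oC R : Set G) :=
    (hLR.trans (centralizer_le_normalizer _)).trans (normalizer_le_oC R)
  haveI : ((oC R).subgroupOf X).Normal :=
    normal_subgroupOf_of_le_normalizer (sup_le hLn le_normalizer)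
  have hXd : Nat.card ↥X ∣ Nat.card ↥L * Nat.card ↥(oC R) := by
    have h1 := Solvable.card_sup_dvd (L.subgroupOf X) ((oC R).subgroupOf X)
    have h0 : L.subgroupOf X ⊔ (oC R).subgroupOf X = ⊤ :=
      (subgroupOf_sup le_sup_left le_sup_right).symm.trans (subgroupOf_self X)
    rw [h0, Subgroup.card_top, Cores.card_subgroupOf le_sup_left, Cores.card_subgroupOf le_sup_right] at h1
    exact h1
  obtain ⟨k, hk⟩ := (S.isPGroup'.to_le (inf_le_left : Q ≤ (S : Subgroup G))).exists_card_eq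
  have hkL : 2 ^ k ∣ Nat.card ↥L := by
    refine (Nat.Coprime.pow_left k (Nat.prime_two.coprime_iff_not_dvd.2 (not_two_dvd_oC R))).dvd_of_dvd_mul_right ?_
    exact hk ▸ (Subgroup.card_dvd_of_le inf_le_right).trans hXd
  obtain ⟨P, hP⟩ := PReduced.exists_sylow_inf S hSL
  have h2 : Nat.card ↥(P : Subgroup ↥L) = Nat.card ↥((S : Subgroup G) ⊓ L : Subgroup G) := by
    rw [hP, ← inf_subgroupOf_right, Cores.card_subgroupOf inf_le_right]
  rw [hk, ← h2]
  exact Nat.le_of_dvd Nat.card_pos (P.pow_dvd_card_of_pow_dvd_card hkL)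

/-- An element normalising a link maps its part in `C(T)^∞` into `C(T)^∞`. -/
theorem step (hT : IsStronglyClosed T (S : Subgroup G)) (hG : StrongAlperin.Good 2 (S : Subgroup G) D)
    {g z : G} (hg : g ∈ normalizer (D : Set G)) (hzD : z ∈ D) (hz : z ∈ perfectCore T) :
    g * z * g⁻¹ ∈ perfectCore T := by
  have hDS : D ≤ (S : Subgroup G) := hG.1
  have hle := climb S hT (D ⊓ T) inf_le_right (closing_of_good hT hG)
  have h1 : g * z * g⁻¹ ∈ perfectCore (D ⊓ T) :=
    (mem_normalizer_iff.1 (normalizer_le _ (normalizer_le_normalizer_inf hT hDS hg)) z).1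
      (perfectCore_anti inf_le_right hz)
  exact mem_of_mem_sup_oC ((StrongClosedNC.sylow_le_normalizer hT).trans (normalizer_le T))
    ((perfectCore_le T).trans (centralizer_le inf_le_right))
    (hDS ((mem_normalizer_iff.1 hg z).1 hzD)) (hle h1)

/-- **`S ∩ C(T)^∞` is strongly closed in `S`.** -/
theorem stronglyClosed_inf (hT : IsStronglyClosed T (S : Subgroup G)) :
    IsStronglyClosed ((S : Subgroup G) ⊓ perfectCore T) (S : Subgroup G) := by
  haveI : Fact (Nat.Prime 2) := ⟨Nat.prime_two⟩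
  refine ⟨inf_le_left, fun x hx g hg => ⟨hg, ?_⟩⟩
  obtain ⟨c, hc, y, hy, h, hh, e⟩ := StrongAlperin.reach_of_conj S {x} g⁻¹
    (Set.singleton_subset_iff.2 hx.1) (by
      rintro _ ⟨a, ha, rfl⟩
      rw [Set.mem_singleton_iff] at ha
      subst ha
      simp only [inv_inv, SetLike.mem_coe]
      exact hg)
  have key : ∀ {A : Set G} {h : G}, StrongAlperin.KSteps 2 (S : Subgroup G) A h →
      A ⊆ (perfectCore T : Set G) → ∀ a ∈ A, h⁻¹ * a * h ∈ perfectCore T := by
    intro A h hh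
    induction hh with
    | nil A => intro hA a ha; simpa using hA ha
    | @cons A g H k hk hA _ ih =>
      intro hAL a ha
      have h1 := ih (by
        rintro _ ⟨b, hb, rfl⟩
        simpa using step hT hk.1 (inv_mem hk.mem_normalizer) (hA hb) (hAL hb)) _ ⟨a, ha, rfl⟩
      simpa [mul_assoc] using h1
  have h1 := key hh (Set.singleton_subset_iff.2 hx.2) x rfl
  have hcx : c⁻¹ * x * c = x := by
    rw [mul_assoc, mem_centralizer_iff.1 hc x rfl, ← mul_assoc, inv_mul_cancel, one_mul]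
  have hyT : y ∈ normalizer (T : Set G) := Coprime.mem_normalizer_of_forall fun t ht =>
    hT.2 t ht y ((mem_normalizer_iff.1 hy t).1 (hT.1 ht))
  have h2 := (mem_normalizer_iff.1 (normalizer_le T (inv_mem hyT)) _).1 h1
  have e2 : g * x * g⁻¹ = y⁻¹ * (h⁻¹ * x * h) * y⁻¹⁻¹ := by
    rw [show g = (c * h * y)⁻¹ by rw [← e, inv_inv]]
    conv_rhs => rw [← hcx]
    group
  rwa [e2]

end Cfsg.Agent.ClosedCent
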