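import Cfsg.Agent.Lib.ClosedCent.Abelian

/-!
# The residual of the centraliser of a strongly closed subgroup (owner: helper78, S1173)

* `perfectCore T` : the last term of the derived series of `C_G(T)`, inside `G`
* `perfectCore_perfect`, `perfectCore_le`, `normalizer_le` : perfect, in `C(T)`, normalised by `N(T)`
* `normal_of_closed` : it is normal when its intersection with the Sylow subgroup is strongly closed
-/

set_option autoImplicit false
set_option linter.unusedSectionVars false
set_option linter.style.haveILetI false

namespace Cfsg.Agent.ClosedCent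

open Cfsg Subgroup Cfsg.Agent.Goldschmidt.General
open scoped commutatorElement

universe u

variable {G : Type u} [Group G] [Finite G]

/-- The last term of the derived series of `C(T)`. -/
def perfectCore (T : Subgroup G) : Subgroup G :=
  (⨅ n : ℕ, derivedSeries ↥(centralizer (T : Set G)) n).map (centralizer (T : Set G)).subtype

theorem derivedSeries_stable (C : Type u) [Group C] [Finite C] :
    ∃ n : ℕ, derivedSeries C (n + 1) = derivedSeries C n ∧ (⨅ m, derivedSeries C m) = derivedSeries C n := by
  obtain ⟨n, hn⟩ : ∃ n, ∀ m, Nat.card ↥(derivedSeries C n) ≤ Nat.card ↥(derivedSeries C m) :=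
    ⟨Function.argmin (fun m => Nat.card ↥(derivedSeries C m)),
      fun m => Function.argmin_le (fun m => Nat.card ↥(derivedSeries C m)) m⟩
  refine ⟨n, ?_, le_antisymm (iInf_le _ n) (le_iInf fun m => ?_)⟩
  · exact eq_of_le_of_card_ge (derivedSeries_antitone C (Nat.le_succ n)) (hn _)
  · rcases le_total n m with h | h
    · exact (eq_of_le_of_card_ge (derivedSeries_antitone C h) (hn m)).ge
    · exact derivedSeries_antitone C h

theorem perfectCore_perfect (T : Subgroup G) : ⁅perfectCore T, perfectCore T⁆ = perfectCore T := by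
  obtain ⟨n, h1, h2⟩ := derivedSeries_stable ↥(centralizer (T : Set G))
  rw [perfectCore, h2, ← map_commutator, ← derivedSeries_succ, h1]

theorem perfectCore_le (T : Subgroup G) : perfectCore T ≤ centralizer (T : Set G) := map_subtype_le _

/-- The normaliser of `T` normalises the residual of `C(T)`. -/
theorem normalizer_le (T : Subgroup G) :
    normalizer (T : Set G) ≤ normalizer (perfectCore T : Set G) := by
  obtain ⟨n, -, h2⟩ := derivedSeries_stable ↥(centralizer (T : Set G))
  rw [perfectCore, h2]
  clear h2
  intro g hg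
  induction n with
  | zero =>
    rw [derivedSeries_zero, ← MonoidHom.range_eq_map, range_subtype]
    refine Coprime.mem_normalizer_of_forall fun c hc => mem_centralizer_iff.2 fun t ht => ?_
    have h1 : g⁻¹ * t * g ∈ T := by simpa using (mem_normalizer_iff.1 (inv_mem hg) t).1 ht
    calc t * (g * c * g⁻¹) = g * ((g⁻¹ * t * g) * c) * g⁻¹ := by group
      _ = g * (c * (g⁻¹ * t * g)) * g⁻¹ := by rw [mem_centralizer_iff.1 hc _ h1]
      _ = g * c * g⁻¹ * t := by group
  | succ n ih =>
    rw [derivedSeries_succ, map_commutator]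
    set D := (derivedSeries ↥(centralizer (T : Set G)) n).map (centralizer (T : Set G)).subtype
    refine Coprime.mem_normalizer_of_forall fun x hx => ?_
    have hD : D.map (MulAut.conj g).toMonoidHom ≤ D := by
      rintro _ ⟨d, hd, rfl⟩
      exact (mem_normalizer_iff.1 ih d).1 hd
    have h1 : g * x * g⁻¹ ∈ (⁅D, D⁆).map (MulAut.conj g).toMonoidHom := ⟨x, hx, rfl⟩
    rw [map_commutator] at h1
    exact commutator_mono hD hD h1

/-- The residual is normal when its part in the Sylow subgroup is strongly closed. -/
theorem normal_of_closed (hMain : ∀ (L : Type u) [Group L] [Finite L], MainAt L)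
    (hO : pPrimeCore 2 G = ⊥) (S : Sylow 2 G) {T : Subgroup G} (hT : IsStronglyClosed T (S : Subgroup G))
    (hL : IsStronglyClosed ((S : Subgroup G) ⊓ perfectCore T) (S : Subgroup G)) :
    (perfectCore T).Normal := by
  haveI : Fact (Nat.Prime 2) := ⟨Nat.prime_two⟩
  set L := perfectCore T with hLdef
  have hp : ⁅L, L⁆ = L := perfectCore_perfect T
  have hLC : L ≤ centralizer (T : Set G) := perfectCore_le T
  have hSL : (S : Subgroup G) ≤ normalizer (L : Set G) :=
    (StrongClosedNC.sylow_le_normalizer hT).trans (normalizer_le T)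
  set T₂ := (S : Subgroup G) ⊓ L with hT₂
  set A := T ⊓ T₂ with hA
  have hAc : IsMulCommutative A := ⟨⟨fun a b => Subtype.ext
    (mem_centralizer_iff.1 (hLC b.2.2.2) a a.2.1)⟩⟩
  have hAsc : IsStronglyClosed A (S : Subgroup G) :=
    ⟨inf_le_left.trans hT.1, fun a ha g hg => ⟨hT.2 a ha.1 g hg, hL.2 a ha.2 g hg⟩⟩
  -- `L` centralises the normal closure of `A`
  have hLA : L ≤ centralizer (normalClosure (A : Set G) : Set G) := by
    rw [← commutator_eq_bot_iff_le_centralizer, ← le_bot_iff, ← hO]
    exact centralizes hMain S hAsc hAc hp (hLC.trans (centralizer_le fun a ha => ha.1))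
  -- the product theorem
  have hprod : ⁅normalClosure (T : Set G), normalClosure (T₂ : Set G)⁆ ≤ normalClosure (A : Set G) := by
    refine (ProductMeet.product_meet_of_mainAt hMain S hT hL
      fun a ha b hb => mem_centralizer_iff.1 (hLC hb.2) a ha).trans ?_
    rw [hO, sup_bot_eq]
  -- `L` lies in the normal closure of its Sylow subgroup
  have hLK : L ≤ normalClosure (T₂ : Set G) := by
    set K := normalClosure (T₂ : Set G)
    set f := QuotientGroup.mk' K
    have hodd : Odd (Nat.card ↥(L.map f)) := by
      rw [← relIndex_ker, QuotientGroup.ker_mk', ← Nat.not_even_iff_odd, even_iff_two_dvd]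
      intro h2
      obtain ⟨P, hP⟩ := PReduced.exists_sylow_inf S hSL
      refine P.not_dvd_index (h2.trans ?_)
      have h3 : T₂.relIndex L = (P : Subgroup ↥L).index := by
        rw [hT₂, inf_relIndex_right, relIndex, hP]
      rw [← h3]
      exact relIndex_dvd_of_le_left L subset_normalClosure
    have h1 := eq_bot_of_perfect (OddOrderTheorem.solvable hodd)
      (show ⁅L.map f, L.map f⁆ = L.map f by rw [← map_commutator, hp])
    rw [Subgroup.map_eq_bot_iff, QuotientGroup.ker_mk'] at h1
    exact h1
  set N := normalClosure (T : Set G) with hN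
  have hLN : L ≤ centralizer (N : Set G) := by
    have h0 : ⁅L, N⁆ ≤ normalClosure (A : Set G) := by
      rw [commutator_comm]
      exact (commutator_mono le_rfl hLK).trans hprod
    have h1 : ⁅⁅L, N⁆, L⁆ = ⊥ := by
      rw [commutator_eq_bot_iff_le_centralizer]
      exact h0.trans (le_centralizer_iff.1 hLA)
    have h2 : ⁅⁅N, L⁆, L⁆ = ⊥ := by rwa [commutator_comm N L]
    have h3 := commutator_commutator_eq_bot_of_rotate h1 h2
    rw [hp] at h3
    exact commutator_eq_bot_iff_le_centralizer.1 h3
  -- the Frattini argument
  obtain ⟨P, hP⟩ := PReduced.exists_sylow_inf S (C := N) (by rw [normalizer_eq_top]; exact le_top)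
  have hmap : (P : Subgroup ↥N).map N.subtype = (S : Subgroup G) ⊓ N := by rw [hP, subgroupOf_map_subtype]
  rw [← normalizer_eq_top_iff, eq_top_iff, ← Sylow.normalizer_sup_eq_top P, hmap]
  refine sup_le (fun g hg => normalizer_le T ?_) ?_
  · refine Coprime.mem_normalizer_of_forall fun t ht => hT.2 t ht g ?_
    exact ((mem_normalizer_iff.1 hg t).1 ⟨hT.1 ht, subset_normalClosure ht⟩).1
  · exact (le_centralizer_iff.1 hLN).trans (centralizer_le_normalizer _)

end Cfsg.Agent.ClosedCent
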